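import Cfsg.Agent.H279.Dl.OmTwo
import Cfsg.Agent.H454.Dl.Crit
import Cfsg.Agent.OddHalf.Table.OutSpSix

/-!
# The row of S4769 for `Sp_2n(2)`, `n ≥ 3`, `p = 2` (helper279, task DL-SP2 of S4769)

`row_sp_two`.
-/

set_option autoImplicit false

open scoped ComplexConjugate
open Cfsg

namespace Cfsg.Agent.H279.Dl

open Cfsg.Agent.Characters Module Cfsg.Agent.H53.HC Cfsg.Agent.H477.HC Cfsg.Agent.H749.Two Cfsg.Agent.H674.Dl
  Cfsg.Agent.H246.Dl

universe u v w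

section

variable {K : Type u} [Field K]

section frame

variable {V : Type v} [AddCommGroup V] [Module K V] {F : CForm K V}
  {X : Type w} [AddCommGroup X] [Module K X] {F' : CForm K X} {j : X →ₗ[K] V}

theorem frm_mem' {k : ℕ} {e f : Fin k → V} (h : CForm.Frm F F' e f j) : Submodule.span K (Set.range f) ∈ F.Om k := by
  classical
  refine ⟨F.TS_span h.hff h.hQf, ?_⟩
  have hli : LinearIndependent K f := by
    rw [Fintype.linearIndependent_iff]
    intro g hg i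
    have h1 : F.B (e i) (∑ l, g l • f l) = F.σ (g i) := by
      rw [CForm.B_sum_right, Finset.sum_eq_single i]
      · rw [h.hef, if_pos rfl, mul_one]
      · intro l _ hl
        rw [h.hef, if_neg (Ne.symm hl), mul_zero]
      · intro h; exact absurd (Finset.mem_univ _) h
    rw [hg, F.B_zero_right] at h1
    have := congrArg F.σ h1
    rw [F.σσ, map_zero] at this
    exact this.symm
  rw [finrank_span_eq_card hli, Fintype.card_fin]

theorem frm_opp {k : ℕ} {e f : Fin k → V} (h : CForm.Frm F F' e f j) :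
    Submodule.span K (Set.range e) ⊓ F.perp (Submodule.span K (Set.range f)) = ⊥ := by
  classical
  rw [Submodule.eq_bot_iff]
  rintro w ⟨hw, hw'⟩
  obtain ⟨g, rfl⟩ := (Submodule.mem_span_range_iff_exists_fun K).1 hw
  have h1 : ∀ i, g i = 0 := by
    intro i
    have h2 := hw' (f i) (Submodule.subset_span ⟨i, rfl⟩)
    rw [CForm.B_sum_left, Finset.sum_eq_single i] at h2
    · rwa [h.hef, if_pos rfl, mul_one] at h2
    · intro l _ hl
      rw [h.hef, if_neg hl, mul_zero]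
    · intro h; exact absurd (Finset.mem_univ _) h
  exact Finset.sum_eq_zero fun i _ => by rw [h1, zero_smul]

theorem ne_of_opp {k : ℕ} (hk : 0 < k) {W₀ W₁ : Submodule K V} (hW₀ : W₀ ∈ F.Om k) (h : W₀ ⊓ F.perp W₁ = ⊥) :
    W₁ ≠ W₀ := by
  rintro rfl
  rw [inf_eq_left.2 hW₀.1.le_perp] at h
  have h1 := hW₀.2
  rw [h, finrank_bot] at h1
  omega

theorem frm_perp {k : ℕ} {e f : Fin k → V} (h : CForm.Frm F F' e f j) (x : X) :
    ∀ w ∈ Submodule.span K (Set.range f), F.B (j x) w = 0 := by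
  intro w hw
  obtain ⟨g, rfl⟩ := (Submodule.mem_span_range_iff_exists_fun K).1 hw
  rw [CForm.B_sum_right]
  exact Finset.sum_eq_zero fun i _ => by rw [h.hjf, mul_zero]

end frame

theorem A_one : A 1 = 3 := by simp [A]

/-- a non-trivial linear character of `Sp_2(2)` -/
theorem exists_psi0 (h2 : Nat.card K = 2) : ∃ ψ₀ : (CForm.spF K 1).iso → ℂ, IsCharacter _ ψ₀ ∧ ψ₀ 1 = 1 ∧
    ∃ b, ψ₀ b ≠ 1 := by
  classical
  have := finite_of_two h2
  let _ := Fintype.ofFinite K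
  obtain ⟨c, hc, hcusp, hc1⟩ := exists_c2 h2
  obtain ⟨a, ha⟩ := c2_ne_one h2 hcusp
  let b : Basis (Fin 2) K (Fin 1 ⊕ Fin 1 → K) := finBasisOfFinrankEq K _ (by
    rw [finrank_fintype_fun_eq_card]; simp)
  let g : (CForm.spF K 1).iso →* GL (Fin 2) K := (glE b).toMonoidHom.comp (CForm.spF K 1).iso.subtype
  have hg : Function.Injective g := fun x y hxy => Subtype.ext ((glE b).injective hxy)
  have hcard : Nat.card (CForm.spF K 1).iso = Nat.card (GL (Fin 2) K) := by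
    rw [card_iso h2, A_one, Matrix.card_GL_field, Fin.prod_univ_two, ← Nat.card_eq_fintype_card, h2]
    norm_num
  have hs : Function.Surjective g := by
    have := finite_iso (CForm.spF K 1)
    exact ((Nat.bijective_iff_injective_and_card g).2 ⟨hg, hcard⟩).2
  obtain ⟨x, hx⟩ := hs a
  exact ⟨c ∘ g, Core.isCharacter_comp g (Core.isIrr_isCharacter hc), by rw [Function.comp_apply, map_one, hc1], x, by
    rw [Function.comp_apply, hx]; exact ha⟩

/-- **an even degree below `|Om 2|`** -/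
theorem exists_E (h2 : Nat.card K = 2) {n : ℕ} (hn : 2 ≤ n) (hodd : ¬ 2 ∣ Nat.card ((CForm.spF K n).Om 2)) :
    ∃ χ : (CForm.spF K n).iso → ℂ, IsIrrCharacter _ χ ∧
      ∃ d : ℕ, χ 1 = d ∧ 2 ∣ d ∧ d < Nat.card ((CForm.spF K n).Om 2) := by
  classical
  have := finite_of_two h2
  have := finite_iso (CForm.spF K n)
  have := finite_Om (CForm.spF K n) 2
  let _ := Fintype.ofFinite (CForm.spF K n).iso
  let _ := Fintype.ofFinite ((CForm.spF K n).Om 2)
  obtain ⟨c, hc, hcusp, hc1⟩ := exists_c2 h2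
  obtain ⟨a, ha⟩ := c2_ne_one h2 hcusp
  have hcn : c ≠ 1 := fun h => ha (by rw [h]; rfl)
  have hcf := Core.isIrr_isClassFunction hc
  obtain ⟨e, f, j, hf⟩ := CForm.frm_sp (K := K) (k := 2) (n := n - 2) (m := n) (by omega)
  have h1 := norm_one hc hcusp hc1 (iota_self h2 hcf) hcn (frm_mem hf) (frm_mem' hf) (frm_opp hf)
    (ne_of_opp two_pos (frm_mem hf) (frm_opp hf))
  have h3 : (CForm.spF K n).hc c (fun _ _ => 1) 1 = ((Nat.card ((CForm.spF K n).Om 2) : ℕ) : ℂ) := by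
    rw [(CForm.spF K n).hc_one hcf (fun _ _ => 1) (d := 1) (fun _ _ => rfl), hc1, mul_one, mul_one]
  obtain ⟨χ, hχ, -, h4⟩ := exists_even (hc_chr hc (Psi.one _ 2) (frm_mem hf)) h1 h3 hodd
  exact ⟨χ, hχ, h4⟩

/-- **two different even degrees for `n = 3`** -/
theorem exists_EE (h2 : Nat.card K = 2) (hodd : ¬ 2 ∣ Nat.card ((CForm.spF K 3).Om 2)) :
    ∃ χ χ' : (CForm.spF K 3).iso → ℂ, IsIrrCharacter _ χ ∧ IsIrrCharacter _ χ' ∧ χ ≠ χ' ∧
      (∃ d : ℕ, χ 1 = d ∧ 2 ∣ d ∧ d < Nat.card ((CForm.spF K 3).Om 2)) ∧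
      ∃ d : ℕ, χ' 1 = d ∧ 2 ∣ d ∧ d < Nat.card ((CForm.spF K 3).Om 2) := by
  classical
  have := finite_of_two h2
  have := finite_iso (CForm.spF K 3)
  have := finite_Om (CForm.spF K 3) 2
  let _ := Fintype.ofFinite (CForm.spF K 3).iso
  let _ := Fintype.ofFinite ((CForm.spF K 3).Om 2)
  obtain ⟨c, hc, hcusp, hc1⟩ := exists_c2 h2
  obtain ⟨a, ha⟩ := c2_ne_one h2 hcusp
  have hcn : c ≠ 1 := fun h => ha (by rw [h]; rfl)
  have hcf := Core.isIrr_isClassFunction hc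
  obtain ⟨e, f, j, hf⟩ := CForm.frm_sp (K := K) (k := 2) (n := 1) (m := 3) (by omega)
  have hne := ne_of_opp two_pos (frm_mem hf) (frm_opp hf)
  have h1 := norm_one hc hcusp hc1 (iota_self h2 hcf) hcn (frm_mem hf) (frm_mem' hf) (frm_opp hf) hne
  have h3 : (CForm.spF K 3).hc c (fun _ _ => 1) 1 = ((Nat.card ((CForm.spF K 3).Om 2) : ℕ) : ℂ) := by
    rw [(CForm.spF K 3).hc_one hcf (fun _ _ => 1) (d := 1) (fun _ _ => rfl), hc1, mul_one, mul_one]
  obtain ⟨ψ₀, hψ, hψ1, b, hb⟩ := exists_psi0 h2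
  have hch := hc_chr hc (Psi.one _ 2) (frm_mem hf)
  obtain ⟨H, hH, hH1, hHH, hHc⟩ := two_chars hc hcusp hc1 (iota_self h2 hcf) hcn (cmp_of_frm hf rfl) (frm_mem hf)
    (frm_mem' hf) (frm_opp hf) hne (frm_perp hf) (fun W' hW' h1 h0 => no_perp _ (by
      rw [finrank_fintype_fun_eq_card]; simp) (frm_mem hf) hW' h1 h0) hψ hψ1 hb
  obtain ⟨χ, hχ, hχH, h4⟩ := exists_even hch h1 h3 hodd
  obtain ⟨χ', hχ', hχH', h5⟩ := exists_even hH hHH hH1 hodd
  refine ⟨χ, χ', hχ, hχ', ?_, h4, h5⟩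
  rintro rfl
  exact classInner_ne_zero_of_common hch hH hχ hχH hχH' hHc

/-- automorphisms are inner -/
theorem inner_iso (h2 : Nat.card K = 2) {n : ℕ} (hn : 3 ≤ n) (σ : (CForm.spF K n).iso ≃* (CForm.spF K n).iso) :
    ∃ x, ∀ g, σ g = x * g * x⁻¹ := by
  obtain ⟨y, hy⟩ := Cfsg.Agent.OddHalf.Table.OutSpSix.inner hn h2
    (((pspIso h2 n).trans σ).trans (pspIso h2 n).symm)
  refine ⟨pspIso h2 n y, fun g => ?_⟩
  have h3 := congrArg (fun α : MulAut (PSp n K) => pspIso h2 n (α ((pspIso h2 n).symm g))) hy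
  change pspIso h2 n ((pspIso h2 n).symm (σ (pspIso h2 n ((pspIso h2 n).symm g)))) =
    pspIso h2 n (y * (pspIso h2 n).symm g * y⁻¹) at h3
  rwa [MulEquiv.apply_symm_apply, MulEquiv.apply_symm_apply, map_mul, map_mul, MulEquiv.apply_symm_apply, map_inv] at h3

theorem st_deg (h2 : Nat.card K = 2) {n : ℕ} (hn : 1 ≤ n) :
    ∃ ψ : (CForm.spF K n).iso → ℂ, IsIrrCharacter _ ψ ∧ ψ 1 = ((2 ^ n ^ 2 : ℕ) : ℂ) := by
  obtain ⟨ψ, hψ, a, ha, h1, h3⟩ := exists_st h2 hn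
  refine ⟨ψ, hψ, ?_⟩
  rw [h1, h3]
  have h4 : 2 ^ (Nat.card (CForm.spF K n).iso).factorization 2 * pp 2 (Nat.card (CForm.spF K n).iso) =
      Nat.card (CForm.spF K n).iso := Nat.ordProj_mul_ordCompl_eq_self _ _
  rw [pp_card h2] at h4
  have h5 : 2 ^ (Nat.card (CForm.spF K n).iso).factorization 2 = 2 ^ n ^ 2 :=
    Nat.eq_of_mul_eq_mul_right (A_pos n) (h4.trans (card_iso h2 n))
  rw [h5]

theorem om_eq (h2 : Nat.card K = 2) {n v : ℕ} (hn : 2 ≤ n) (hv : (2 ^ (2 * n - 2) - 1) * (2 ^ (2 * n) - 1) = 3 * v) :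
    Nat.card ((CForm.spF K n).Om 2) = v := by
  have h := card_om_two h2 hn
  rw [hv] at h
  exact Nat.eq_of_mul_eq_mul_left (by norm_num) h

/-- `n = 3` -/
theorem many_three (h2 : Nat.card K = 2) : Many 2 (CForm.spF K 3).iso 3 := by
  have hN : Nat.card ((CForm.spF K 3).Om 2) = 315 := om_eq h2 (by norm_num) (by norm_num)
  obtain ⟨χ, χ', hχ, hχ', hne, ⟨d, hd, hd2, hdN⟩, ⟨d', hd', hd2', hdN'⟩⟩ := exists_EE h2 (by rw [hN]; norm_num)
  obtain ⟨ψ, hψ, hψ1⟩ := st_deg h2 (n := 3) (by norm_num)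
  rw [hN] at hdN hdN'
  have e1 : charDegree χ = d := H670.PSing.charDegree_eq_of hd
  have e2 : charDegree χ' = d' := H670.PSing.charDegree_eq_of hd'
  have e3 : charDegree ψ = 2 ^ 3 ^ 2 := H670.PSing.charDegree_eq_of hψ1
  refine Cfsg.Agent.H454.DlCrit.Many.of_two_degree (α := ⟨χ, hχ⟩) (β := ⟨χ', hχ'⟩) (ψ := ⟨ψ, hψ⟩) ?_ ?_ ?_ ?_ ?_ ?_
  · change 2 ∣ charDegree χ
    rw [e1]; exact hd2
  · change 2 ∣ charDegree χ'
    rw [e2]; exact hd2'
  · change 2 ∣ charDegree ψ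
    rw [e3]; norm_num
  · intro σ
    by_contra hcon
    push Not at hcon
    apply hne
    obtain ⟨x, hx⟩ := inner_iso h2 le_rfl σ
    funext g
    have h3 := hcon g
    change χ (σ g) = χ' g at h3
    rw [← h3, hx]
    exact (Core.isIrr_isClassFunction hχ g x).symm
  · change charDegree ψ ≠ charDegree χ
    rw [e1, e3]; omega
  · change charDegree ψ ≠ charDegree χ'
    rw [e2, e3]; omega

/-! ### the odd parts -/

theorem D_lt {n k : ℕ} (hk : 2 ≤ k) (hkn : k < n) :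
    (2 ^ (k + 1) - 1) * A (n - (k + 1)) < (2 ^ k - 1) * A (n - k) := by
  obtain ⟨t, ht⟩ : ∃ t, n - k = t + 1 := ⟨n - k - 1, by omega⟩
  have ht' : n - (k + 1) = t := by omega
  rw [ht, ht', A_succ]
  have h1 : 4 ≤ 2 ^ (2 * (t + 1)) := by
    calc 4 = 2 ^ 2 := by norm_num
      _ ≤ _ := Nat.pow_le_pow_right (by norm_num) (by omega)
  have h2 : 4 ≤ 2 ^ k := by
    calc 4 = 2 ^ 2 := by norm_num
      _ ≤ _ := Nat.pow_le_pow_right (by norm_num) hk
  have h3 : 2 ^ (k + 1) = 2 * 2 ^ k := by ring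
  have hA := A_pos t
  have h4 : (2 ^ (k + 1) - 1) < (2 ^ k - 1) * 3 := by omega
  calc (2 ^ (k + 1) - 1) * A t < (2 ^ k - 1) * 3 * A t := Nat.mul_lt_mul_of_pos_right h4 hA
    _ = (2 ^ k - 1) * (A t * 3) := by ring
    _ ≤ _ := Nat.mul_le_mul_left _ (Nat.mul_le_mul_left _ (by omega))

theorem D_anti {n k k' : ℕ} (hk : 2 ≤ k) (hkk : k < k') (hkn : k' ≤ n) :
    (2 ^ k' - 1) * A (n - k') < (2 ^ k - 1) * A (n - k) := by
  induction k', hkk using Nat.le_induction with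
  | base => exact D_lt hk hkn
  | succ l hl ih => exact (D_lt (by omega) hkn).trans (ih (by omega))

theorem pp_dg_ne (h2 : Nat.card K = 2) {n k k' : ℕ} (hk : 2 ≤ k) (hkk : k < k') (hkn : k' ≤ n) :
    pp 2 (dg (CForm.spF K n) k) ≠ pp 2 (dg (CForm.spF K n) k') := by
  intro h
  have h1 := pp_dg_mul h2 (n := n) (k := k) (by omega) (by omega)
  have h3 := pp_dg_mul h2 (n := n) (k := k') (by omega) (by omega)
  have h4 := D_anti hk hkk hkn
  have hA := A_pos n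
  rw [← h, mul_assoc] at h3
  rw [mul_assoc] at h1
  have h5 : 0 < pp 2 (dg (CForm.spF K n) k) := Nat.pos_of_mul_pos_right (by rw [← h1]; exact hA)
  have h6 := Nat.mul_lt_mul_of_pos_left h4 h5
  omega

theorem pp_dg_ne_one (h2 : Nat.card K = 2) {n k : ℕ} (hk : 2 ≤ k) (hkn : k ≤ n) :
    pp 2 (dg (CForm.spF K n) k) ≠ 1 := by
  intro h
  have h1 := pp_dg_mul h2 (n := n) (k := k) (by omega) (by omega)
  rw [h, one_mul] at h1
  have h3 : (2 ^ k - 1) * A (n - k) ≤ (2 ^ 2 - 1) * A (n - 2) := by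
    rcases Nat.eq_or_lt_of_le hk with h4 | h4
    · rw [← h4]
    · exact (D_anti le_rfl h4 hkn).le
  obtain ⟨t, rfl⟩ : ∃ t, n = t + 2 := ⟨n - 2, by omega⟩
  have h4 : t + 2 - 2 = t := by omega
  rw [h4] at h3
  rw [← h1, A_succ, A_succ] at h3
  have h5 : 4 ≤ 2 ^ (2 * (t + 1)) := by
    calc 4 = 2 ^ 2 := by norm_num
      _ ≤ _ := Nat.pow_le_pow_right (by norm_num) (by omega)
  have h6 : 16 ≤ 2 ^ (2 * (t + 1 + 1)) := by
    calc 16 = 2 ^ 4 := by norm_num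
      _ ≤ _ := Nat.pow_le_pow_right (by norm_num) (by omega)
  have hA := A_pos t
  have h7 : A t * 3 * 15 ≤ A t * (2 ^ (2 * (t + 1)) - 1) * (2 ^ (2 * (t + 1 + 1)) - 1) :=
    Nat.mul_le_mul (Nat.mul_le_mul_left _ (by omega)) (by omega)
  omega

/-- the degrees -/
theorem exists_deg (h2 : Nat.card K = 2) {n k : ℕ} (hk3 : 3 ≤ k) (hkn : k < n) (hnk : n < 2 * k) :
    ∃ d : ℕ, (2 ∣ d ∧ ∃ χ : (CForm.spF K n).iso → ℂ, IsIrrCharacter _ χ ∧ χ 1 = d) ∧
      pp 2 d = pp 2 (dg (CForm.spF K n) k) ∧ 2 * pp 2 (dg (CForm.spF K n) k) ≤ d := by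
  obtain ⟨χ, hχ, a, ha, h⟩ := exists_chi h2 hk3 hkn hnk
  refine ⟨dg (CForm.spF K n) k * 2 ^ a, ⟨Dvd.dvd.mul_left (dvd_pow_self 2 (by omega)) _, χ, hχ, h⟩, ?_, ?_⟩
  · rw [mul_comm, pp_pow_mul Nat.prime_two]
  · rw [mul_comm]
    refine Nat.mul_le_mul (pp_le _) ?_
    calc 2 = 2 ^ 1 := (pow_one 2).symm
      _ ≤ _ := Nat.pow_le_pow_right (by norm_num) ha

/-- the set of degrees -/
theorem exists_D (h2 : Nat.card K = 2) {n : ℕ} (hn : 4 ≤ n) :
    ∃ D : Finset ℕ, D.card = n - n / 2 ∧ (∀ d ∈ D, 2 ∣ d ∧ ∃ χ : (CForm.spF K n).iso → ℂ, IsIrrCharacter _ χ ∧ χ 1 = d) ∧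
      ∀ d ∈ D, d = 2 ^ n ^ 2 ∨ ∃ k, n / 2 < k ∧ k < n ∧ 2 * pp 2 (dg (CForm.spF K n) k) ≤ d := by
  classical
  have hex : ∀ k ∈ Finset.Icc (n / 2 + 1) (n - 1), ∃ d : ℕ, (2 ∣ d ∧ ∃ χ : (CForm.spF K n).iso → ℂ, IsIrrCharacter _ χ ∧ χ 1 = d) ∧
      pp 2 d = pp 2 (dg (CForm.spF K n) k) ∧ 2 * pp 2 (dg (CForm.spF K n) k) ≤ d := by
    intro k hk
    rw [Finset.mem_Icc] at hk
    exact exists_deg h2 (by omega) (by omega) (by omega)
  choose! d hd1 hd2 hd3 using hex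
  have hinj : Set.InjOn d (Finset.Icc (n / 2 + 1) (n - 1) : Finset ℕ) := by
    intro k hk k' hk' h
    have h3 : pp 2 (dg (CForm.spF K n) k) = pp 2 (dg (CForm.spF K n) k') := by
      rw [← hd2 k hk, ← hd2 k' hk', h]
    rw [Finset.mem_coe, Finset.mem_Icc] at hk hk'
    rcases lt_trichotomy k k' with h4 | h4 | h4
    · exact absurd h3 (pp_dg_ne h2 (by omega) h4 (by omega))
    · exact h4
    · exact absurd h3.symm (pp_dg_ne h2 (by omega) h4 (by omega))
  have hnot : 2 ^ n ^ 2 ∉ (Finset.Icc (n / 2 + 1) (n - 1)).image d := by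
    intro h
    obtain ⟨k, hk, hk'⟩ := Finset.mem_image.1 h
    have h3 := hd2 k hk
    rw [hk', pp_pow Nat.prime_two] at h3
    rw [Finset.mem_Icc] at hk
    exact pp_dg_ne_one h2 (by omega) (by omega) h3.symm
  refine ⟨insert (2 ^ n ^ 2) ((Finset.Icc (n / 2 + 1) (n - 1)).image d), ?_, ?_, ?_⟩
  · rw [Finset.card_insert_of_notMem hnot, Finset.card_image_of_injOn hinj, Nat.card_Icc]
    omega
  · intro x hx
    rw [Finset.mem_insert] at hx
    rcases hx with rfl | hx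
    · obtain ⟨ψ, hψ, hψ1⟩ := st_deg h2 (n := n) (by omega)
      exact ⟨dvd_pow_self 2 (by positivity), ψ, hψ, hψ1⟩
    · obtain ⟨k, hk, rfl⟩ := Finset.mem_image.1 hx
      exact hd1 k hk
  · intro x hx
    rw [Finset.mem_insert] at hx
    rcases hx with rfl | hx
    · exact Or.inl rfl
    · obtain ⟨k, hk, rfl⟩ := Finset.mem_image.1 hx
      have := hd3 k hk
      rw [Finset.mem_Icc] at hk
      exact Or.inr ⟨k, by omega, by omega, this⟩

/-- `n ≥ 7` -/
theorem many_big (h2 : Nat.card K = 2) {n : ℕ} (hn : 4 ≤ n) : Many 2 (CForm.spF K n).iso (n - n / 2) := by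
  obtain ⟨D, hD, h1, -⟩ := exists_D h2 hn
  rw [← hD]
  exact Many.of_finset h1

/-- `4 ≤ n ≤ 6` -/
theorem many_mid (h2 : Nat.card K = 2) {n : ℕ} (hn : 4 ≤ n) (hodd : ¬ 2 ∣ Nat.card ((CForm.spF K n).Om 2))
    (h3 : Nat.card ((CForm.spF K n).Om 2) ≤ 2 ^ n ^ 2)
    (h4 : ∀ k, n / 2 < k → k < n → Nat.card ((CForm.spF K n).Om 2) ≤ 2 * pp 2 (dg (CForm.spF K n) k)) :
    Many 2 (CForm.spF K n).iso (n - n / 2 + 1) := by
  obtain ⟨D, hD, h1, h5⟩ := exists_D h2 hn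
  obtain ⟨χ, hχ, d, hd, hd2, hdN⟩ := exists_E h2 (by omega) hodd
  have hnot : d ∉ D := by
    intro h
    rcases h5 d h with h6 | ⟨k, hk1, hk2, hk3⟩
    · omega
    · have := h4 k hk1 hk2
      omega
  have h6 := Finset.card_insert_of_notMem hnot
  rw [hD] at h6
  rw [← h6]
  refine Many.of_finset fun x hx => ?_
  rw [Finset.mem_insert] at hx
  rcases hx with rfl | hx
  · exact ⟨hd2, χ, hχ, hd⟩
  · exact h1 x hx

theorem A_two : A 2 = 45 := by simp [A, Finset.prod_range_succ]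
theorem A_four : A 4 = 722925 := by simp [A, Finset.prod_range_succ]
theorem A_five : A 5 = 739552275 := by simp [A, Finset.prod_range_succ]
theorem A_six : A 6 = 3028466566125 := by simp [A, Finset.prod_range_succ]

theorem many_four (h2 : Nat.card K = 2) : Many 2 (CForm.spF K 4).iso 3 := by
  have hN : Nat.card ((CForm.spF K 4).Om 2) = 5355 := om_eq h2 (by norm_num) (by norm_num)
  refine many_mid h2 (n := 4) le_rfl (by rw [hN]; norm_num) (by rw [hN]; norm_num) fun k hk1 hk2 => ?_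
  obtain rfl : k = 3 := by omega
  have h := pp_dg_mul h2 (n := 4) (k := 3) (by norm_num) (by norm_num)
  norm_num [A_four, A_one] at h
  rw [hN]
  omega

theorem many_five (h2 : Nat.card K = 2) : Many 2 (CForm.spF K 5).iso 4 := by
  have hN : Nat.card ((CForm.spF K 5).Om 2) = 86955 := om_eq h2 (by norm_num) (by norm_num)
  refine many_mid h2 (n := 5) (by norm_num) (by rw [hN]; norm_num) (by rw [hN]; norm_num) fun k hk1 hk2 => ?_
  have hk : k = 3 ∨ k = 4 := by omega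
  rcases hk with rfl | rfl
  · have h := pp_dg_mul h2 (n := 5) (k := 3) (by norm_num) (by norm_num)
    norm_num [A_five, A_two] at h
    rw [hN]
    omega
  · have h := pp_dg_mul h2 (n := 5) (k := 4) (by norm_num) (by norm_num)
    norm_num [A_five, A_one] at h
    rw [hN]
    omega

theorem many_six (h2 : Nat.card K = 2) : Many 2 (CForm.spF K 6).iso 4 := by
  have hN : Nat.card ((CForm.spF K 6).Om 2) = 1396395 := om_eq h2 (by norm_num) (by norm_num)
  refine many_mid h2 (n := 6) (by norm_num) (by rw [hN]; norm_num) (by rw [hN]; norm_num) fun k hk1 hk2 => ?_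
  have hk : k = 4 ∨ k = 5 := by omega
  rcases hk with rfl | rfl
  · have h := pp_dg_mul h2 (n := 6) (k := 4) (by norm_num) (by norm_num)
    norm_num [A_six, A_two] at h
    rw [hN]
    omega
  · have h := pp_dg_mul h2 (n := 6) (k := 5) (by norm_num) (by norm_num)
    norm_num [A_six, A_one] at h
    rw [hN]
    omega

theorem clog_le {n : ℕ} (hn : 7 ≤ n) : Nat.clog 2 (2 * n) ≤ n - n / 2 := by
  apply Nat.clog_le_of_le_pow
  obtain ⟨t, ht⟩ : ∃ t, n - n / 2 = t + 4 := ⟨n - n / 2 - 4, by omega⟩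
  rw [ht]
  have h1 : 2 * n ≤ 4 * (t + 4) := by omega
  refine h1.trans ?_
  clear ht h1 hn
  induction t with
  | zero => norm_num
  | succ t ih =>
    have h2 : 2 ^ (t + 1 + 4) = 2 * 2 ^ (t + 4) := by ring
    omega

/-- **The row `Sp_2n(2)`, `n ≥ 3`, `p = 2`.** -/
theorem row_psp_two (h2 : Nat.card K = 2) {n : ℕ} (hn : 3 ≤ n) : Row 2 (PSp n K) := by
  have hdl := dlLe h2 n
  rcases Nat.lt_or_ge n 7 with h | h
  · interval_cases n
    · exact Row.of_le (hdl.mono (Nat.clog_le_of_le_pow (by norm_num))) ((many_three h2).of_equiv (pspIso h2 3)) le_rfl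
    · exact Row.of_le (hdl.mono (Nat.clog_le_of_le_pow (by norm_num))) ((many_four h2).of_equiv (pspIso h2 4)) le_rfl
    · exact Row.of_le (hdl.mono (Nat.clog_le_of_le_pow (by norm_num))) ((many_five h2).of_equiv (pspIso h2 5)) le_rfl
    · exact Row.of_le (hdl.mono (Nat.clog_le_of_le_pow (by norm_num))) ((many_six h2).of_equiv (pspIso h2 6)) le_rfl
  · exact Row.of_le hdl ((many_big h2 (by omega)).of_equiv (pspIso h2 n)) (clog_le h)

end

/-- **The row `Sp_2n(2)`, `n ≥ 3`, `p = 2`.** -/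
theorem row_sp_two {S : Type v} [Group S] [Finite S] {F : Type u} [Field F] (hF : Nat.card F = 2) {n : ℕ} (hn : 3 ≤ n)
    (e : S ≃* PSp n F) : Row 2 S := by
  have : Fact (Nat.Prime 2) := ⟨Nat.prime_two⟩
  exact Row.of_equiv e (row_psp_two hF hn)

end Cfsg.Agent.H279.Dl
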