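import Cfsg.Agent.H279.Dl.Opp

/-!
# The scalar product of two Harish-Chandra induced characters (helper279, task DL-SP2 of S4769)

`Psi F k ψ` : `ψ` is a family of characters of the stabilisers;
`hc_inner` : for cuspidal `c`, `(F.hc c ψ, F.hc c ψ')` is the sum of the contributions of `W₀` and of an opposite `W₁`.
-/

set_option autoImplicit false

open scoped ComplexConjugate
open Cfsg

namespace Cfsg.Agent.H279.Dl

open Cfsg.Agent.OddOrderCharacters.Clifford Cfsg.Agent.Characters MulAction Module Cfsg.Agent.H53.HC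
  Cfsg.Agent.H477.HC Cfsg.Agent.H749.Two

universe u v w

section

variable {K : Type u} [Field K] {V : Type v} [AddCommGroup V] [Module K V] (F : CForm K V)

/-- a family of characters of the stabilisers -/
structure Psi (k : ℕ) (ψ : F.iso → Submodule K V → ℂ) : Prop where
  cj : ∀ x g W, ψ (x * g * x⁻¹) (W.map (F.iso.subtype x : V →ₗ[K] V)) = ψ g W
  tr : ∀ W ∈ F.Om k, ∀ g ∈ F.TT W, ψ g W = ψ 1 W
  chr : ∀ W ∈ F.Om k, IsCharacter (stabW F.iso.subtype W) (fun g => ψ g W)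

theorem Psi.one (k : ℕ) : Psi F k (fun _ _ => 1) where
  cj := fun _ _ _ => rfl
  tr := fun _ _ _ _ => rfl
  chr := fun _ _ => Core.isCharacter_one

variable {F}

/-- the local characters -/
theorem phi_chr [FiniteDimensional K V] {k : ℕ} {c : GL (Fin k) K → ℂ} (hc : IsIrrCharacter _ c)
    {ψ : F.iso → Submodule K V → ℂ} (h : Psi F k ψ) {W : Submodule K V} (hW : W ∈ F.Om k) :
    IsCharacter (stabW F.iso.subtype W) (fun g => flagTerm F.iso.subtype c g W * ψ g W) := by
  have hcf := Core.isIrr_isClassFunction hc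
  let b : Basis (Fin k) K W := finBasisOfFinrankEq K W hW.2
  let f : stabW F.iso.subtype W →* GL (Fin k) K := (glE b).toMonoidHom.comp (resHom F.iso.subtype W)
  have e : (fun g : stabW F.iso.subtype W => flagTerm F.iso.subtype c g W * ψ g W) =
      (c ∘ f) * (fun g : stabW F.iso.subtype W => ψ g W) := by
    funext g
    rw [Pi.mul_apply, flagTerm_of F.iso.subtype c g.2, cl_eq hcf b]
    rfl
  rw [e]
  exact Core.isCharacter_mul (Core.isCharacter_comp f (Core.isIrr_isCharacter hc)) (h.chr W hW)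

theorem pretrans [FiniteDimensional K V] {k : ℕ} :
    letI := subAct F.iso.subtype (F.Om k) F.Om_map
    IsPretransitive F.iso (F.Om k) := by
  letI := subAct F.iso.subtype (F.Om k) F.Om_map
  refine ⟨fun W W' => ?_⟩
  obtain ⟨g, hg⟩ := F.trans_Om W.2 W'.2
  exact ⟨g, Subtype.ext hg⟩

/-- the induced character -/
theorem hc_chr [Finite K] [FiniteDimensional K V] [Finite V] {k : ℕ} [Fintype (F.Om k)]
    {c : GL (Fin k) K → ℂ} (hc : IsIrrCharacter _ c) {ψ : F.iso → Submodule K V → ℂ} (h : Psi F k ψ)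
    {W₀ : Submodule K V} (hW₀ : W₀ ∈ F.Om k) : IsCharacter F.iso (F.hc c ψ) := by
  classical
  have := finite_iso F
  letI : Fintype F.iso := Fintype.ofFinite _
  letI := subAct F.iso.subtype (F.Om k) F.Om_map
  have := pretrans (F := F) (k := k)
  have hcf := Core.isIrr_isClassFunction hc
  have hφ : ∀ (x g : F.iso) (W : F.Om k), (fun g (W : F.Om k) => flagTerm F.iso.subtype c g W.1 * ψ g W.1)
      (x * g * x⁻¹) (x • W) = (fun g (W : F.Om k) => flagTerm F.iso.subtype c g W.1 * ψ g W.1) g W := fun x g W =>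
    congrArg₂ (· * ·) (flagTerm_conj F.iso.subtype hcf x g W.1) (h.cj x g W.1)
  rw [CForm.hc_eq_orbSum F, orbSum_eq_indFun _ hφ ⟨W₀, hW₀⟩]
  refine Cfsg.Agent.S0148.result _ _ ?_
  let f : stabilizer F.iso (⟨W₀, hW₀⟩ : F.Om k) →* stabW F.iso.subtype W₀ :=
    { toFun := fun g => ⟨g, congrArg Subtype.val (mem_stabilizer_iff.1 g.2)⟩
      map_one' := rfl
      map_mul' := fun _ _ => rfl }
  exact Core.isCharacter_comp f (phi_chr hc h hW₀)

/-- **the scalar product** -/
theorem hc_inner [Finite K] [FiniteDimensional K V] [Finite V] [Fintype F.iso] {k : ℕ} [Fintype (F.Om k)]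
    {c : GL (Fin k) K → ℂ} (hc : IsIrrCharacter _ c) (hcusp : IsCusp c)
    {ψ ψ' : F.iso → Submodule K V → ℂ} (h : Psi F k ψ) (h' : Psi F k ψ') {W₀ W₁ : Submodule K V}
    (hW₀ : W₀ ∈ F.Om k) (hW₁ : W₁ ∈ F.Om k) (hopp : W₀ ⊓ F.perp W₁ = ⊥) (hne : W₁ ≠ W₀)
    (hperp : ∀ (ψ'' : F.iso → Submodule K V → ℂ), (∀ W ∈ F.Om k, ∀ g ∈ F.TT W, ψ'' g W = ψ'' 1 W) →
      ((∀ g W, ψ g W = ψ 1 W) → (∀ g W, ψ' g W = ψ' 1 W) → ∀ g W, ψ'' g W = ψ'' 1 W) → ∀ W' ∈ F.Om k,
      W₀ ≤ F.perp W' → W₀ ⊓ W' = ⊥ → F.Van c ψ'' W₀ W') {a b : ℂ}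
    (ha : ∀ [Fintype (stabW F.iso.subtype W₀)], ∑ g : stabW F.iso.subtype W₀,
      (flagTerm F.iso.subtype c g W₀ * ψ g W₀) * conj (flagTerm F.iso.subtype c g W₀ * ψ' g W₀) =
        (Nat.card (stabW F.iso.subtype W₀) : ℂ) * a)
    (hb : ∀ [Fintype (stabW F.iso.subtype W₀ ⊓ stabW F.iso.subtype W₁ : Subgroup F.iso)],
      ∑ g : (stabW F.iso.subtype W₀ ⊓ stabW F.iso.subtype W₁ : Subgroup F.iso),
      (flagTerm F.iso.subtype c g W₀ * ψ g W₀) * conj (flagTerm F.iso.subtype c g W₁ * ψ' g W₁) =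
        (Nat.card (stabW F.iso.subtype W₀ ⊓ stabW F.iso.subtype W₁ : Subgroup F.iso) : ℂ) * b) :
    classInner (F.hc c ψ) (F.hc c ψ') = a + b := by
  classical
  letI := subAct F.iso.subtype (F.Om k) F.Om_map
  have := pretrans (F := F) (k := k)
  have hcf := Core.isIrr_isClassFunction hc
  let φ : F.iso → F.Om k → ℂ := fun g W => flagTerm F.iso.subtype c g W.1 * ψ g W.1
  let φ' : F.iso → F.Om k → ℂ := fun g W => flagTerm F.iso.subtype c g W.1 * ψ' g W.1
  have hφ : ∀ (x g : F.iso) (W : F.Om k), φ (x * g * x⁻¹) (x • W) = φ g W := fun x g W =>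
    congrArg₂ (· * ·) (flagTerm_conj F.iso.subtype hcf x g W.1) (h.cj x g W.1)
  have hφ' : ∀ (x g : F.iso) (W : F.Om k), φ' (x * g * x⁻¹) (x • W) = φ' g W := fun x g W =>
    congrArg₂ (· * ·) (flagTerm_conj F.iso.subtype hcf x g W.1) (h'.cj x g W.1)
  have hst : ∀ (W : F.Om k), stabilizer F.iso W = stabW F.iso.subtype W.1 := by
    intro W
    ext g
    exact ⟨fun h => congrArg Subtype.val (mem_stabilizer_iff.1 h), fun h => mem_stabilizer_iff.2 (Subtype.ext h)⟩
  have htt : ∀ (W W' : F.Om k) (L : Subgroup F.iso) (_ : L = stabW F.iso.subtype W.1 ⊓ stabW F.iso.subtype W'.1)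
      [Fintype L], tt φ φ' W W' = ∑ g : L, (flagTerm F.iso.subtype c g W.1 * ψ g W.1) *
        conj (flagTerm F.iso.subtype c g W'.1 * ψ' g W'.1) := by
    intro W W' L hL _
    unfold tt
    rw [sum_eq_sum_subgroup L]
    · refine Finset.sum_congr rfl fun g _ => ?_
      have hg : (g : F.iso) ∈ stabW F.iso.subtype W.1 ⊓ stabW F.iso.subtype W'.1 := by rw [← hL]; exact g.2
      rw [if_pos]
      exact ⟨Subtype.ext hg.1, Subtype.ext hg.2⟩
    · intro g hg
      rw [if_neg]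
      rintro ⟨h1, h2⟩
      apply hg
      rw [hL]
      exact ⟨congrArg Subtype.val h1, congrArg Subtype.val h2⟩
  rw [CForm.hc_eq_orbSum F, CForm.hc_eq_orbSum F]
  refine inner_orbSum (φ := φ) (φ' := φ') hφ hφ' (ω₀ := ⟨W₀, hW₀⟩) (ω₁ := ⟨W₁, hW₁⟩)
    (fun e => hne (congrArg Subtype.val e)) ?_ ?_ ?_
  · rintro ⟨W', hW'⟩ hne' hno
    have hne' : W' ≠ W₀ := fun e => hne' (Subtype.ext e)
    letI : Fintype (stabW F.iso.subtype W₀ ⊓ stabW F.iso.subtype W' : Subgroup F.iso) := Fintype.ofFinite _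
    rw [htt ⟨W₀, hW₀⟩ ⟨W', hW'⟩ _ rfl]
    -- the mixture
    let ψ'' : F.iso → Submodule K V → ℂ := fun g W => if W = W₀ then ψ g W else ψ' g W
    have h0 : ∀ g, ψ'' g W₀ = ψ g W₀ := fun g => if_pos rfl
    have h1 : ∀ g, ψ'' g W' = ψ' g W' := fun g => if_neg hne'
    have hT : ∀ W ∈ F.Om k, ∀ g ∈ F.TT W, ψ'' g W = ψ'' 1 W := by
      intro W hW g hg
      change (if W = W₀ then ψ g W else ψ' g W) = if W = W₀ then ψ 1 W else ψ' 1 W
      split_ifs
      · exact h.tr W hW g hg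
      · exact h'.tr W hW g hg
    have key : F.Van c ψ'' W₀ W' := by
      by_cases h2 : W₀ ⊓ F.perp W' = ⊥
      · exfalso
        obtain ⟨g, hg1, hg2⟩ := trans_opp F hW₀ hW₁ hW' hopp h2
        refine hno g (Subtype.ext ?_) (Subtype.ext hg2)
        exact map_eq_of_le F.iso.subtype fun w hw => by
          change (g : V ≃ₗ[K] V) w ∈ W₀
          rw [hg1 w hw]; exact hw
      · by_cases h3 : W₀ ⊓ F.perp W' = W₀
        · have h3' : W₀ ≤ F.perp W' := inf_eq_left.1 h3
          by_cases h4 : W₀ ⊓ W' = ⊥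
          · refine hperp ψ'' hT (fun a1 a2 g W => ?_) W' hW' h3' h4
            change (if W = W₀ then ψ g W else ψ' g W) = if W = W₀ then ψ 1 W else ψ' 1 W
            split_ifs
            · exact a1 g W
            · exact a2 g W
          · exact CForm.van_case2 hcf hcusp hT hW₀ hW' h3' h4 hne'
        · exact CForm.van_case1 hcf hcusp hT hW₀ hW' h2 h3
    obtain ⟨L, hL1, hL2, hL3⟩ := key
    letI : Fintype L := Fintype.ofFinite _
    let M : Subgroup F.iso := stabW F.iso.subtype W₀ ⊓ stabW F.iso.subtype W'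
    let i₀ : M →* stabW F.iso.subtype W₀ := Subgroup.inclusion inf_le_left
    let i₁ : M →* stabW F.iso.subtype W' := Subgroup.inclusion inf_le_right
    have c₀ : IsCharacter M (fun g => flagTerm F.iso.subtype c g W₀ * ψ g W₀) :=
      Core.isCharacter_comp i₀ (phi_chr hc h hW₀)
    have c₁ : IsCharacter M (fun g => flagTerm F.iso.subtype c g W' * ψ' g W') :=
      Core.isCharacter_comp i₁ (phi_chr hc h' hW')
    let j : L →* M := Subgroup.inclusion (le_inf hL1 hL2)
    have h5 : classInner (fun g : M => flagTerm F.iso.subtype c g W₀ * ψ g W₀)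
        (fun g : M => flagTerm F.iso.subtype c g W' * ψ' g W') = 0 := by
      refine classInner_eq_zero_of_comp j c₀ c₁ ?_
      rw [Core.classInner_def]
      have h6 := hL3
      rw [Finset.sum_congr rfl (g := fun l : L => ((fun g : M => flagTerm F.iso.subtype c g W₀ * ψ g W₀) ∘ j) l *
        conj (((fun g : M => flagTerm F.iso.subtype c g W' * ψ' g W') ∘ j) l)) (fun l _ => by
          rw [h0, h1]; rfl)] at h6
      rw [h6, mul_zero]
    rw [Core.classInner_def] at h5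
    rcases mul_eq_zero.1 h5 with h6 | h6
    · exact absurd h6 (inv_ne_zero card_ne_zero')
    · exact h6
  · letI : Fintype (stabW F.iso.subtype W₀) := Fintype.ofFinite _
    rw [htt ⟨W₀, hW₀⟩ ⟨W₀, hW₀⟩ (stabW F.iso.subtype W₀) (inf_idem _).symm, ha, hst]
  · letI : Fintype (stabW F.iso.subtype W₀ ⊓ stabW F.iso.subtype W₁ : Subgroup F.iso) := Fintype.ofFinite _
    rw [htt ⟨W₀, hW₀⟩ ⟨W₁, hW₁⟩ _ rfl, hb, hst, hst]

end

end Cfsg.Agent.H279.Dl
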