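import Cfsg.Agent.H749.TwoStab
import Cfsg.Agent.H246.Dl.Mack

/-!
# Norms of monomial characters (helper279, task DL-SP2 of S4769)

* `inner_orbSum` : the scalar product of two induced characters, if only two orbitals contribute;
* `exists_even` : a character of odd degree and norm `2` has an irreducible constituent of even degree.
-/

set_option autoImplicit false

open scoped ComplexConjugate
open Cfsg

namespace Cfsg.Agent.H279.Dl

open Cfsg.Agent.OddOrderCharacters.Clifford Cfsg.Agent.Characters MulAction Module Cfsg.Agent.H53.HC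

universe u v w

section abs

variable {G : Type u} [Group G] {Ω : Type v} [MulAction G Ω]

open Classical in
/-- the contribution of a pair of points -/
noncomputable def tt [Fintype G] (φ φ' : G → Ω → ℂ) (ω ω' : Ω) : ℂ :=
  ∑ g : G, if g • ω = ω ∧ g • ω' = ω' then φ g ω * conj (φ' g ω') else 0

theorem tt_smul [Fintype G] {φ φ' : G → Ω → ℂ} (hφ : ∀ (x g : G) (ω : Ω), φ (x * g * x⁻¹) (x • ω) = φ g ω)
    (hφ' : ∀ (x g : G) (ω : Ω), φ' (x * g * x⁻¹) (x • ω) = φ' g ω) (x : G) (ω ω' : Ω) :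
    tt φ φ' (x • ω) (x • ω') = tt φ φ' ω ω' := by
  classical
  unfold tt
  symm
  refine Fintype.sum_equiv (MulAut.conj x).toEquiv _ _ fun g => ?_
  have e : (MulAut.conj x).toEquiv g = x * g * x⁻¹ := rfl
  rw [e, hφ, hφ']
  have h1 : ∀ ω : Ω, (x * g * x⁻¹) • (x • ω) = x • ω ↔ g • ω = ω := by
    intro ω
    rw [mul_smul, mul_smul, inv_smul_smul, smul_left_cancel_iff]
  rw [h1, h1]

theorem sum_tt [Fintype G] [Fintype Ω] [IsPretransitive G Ω] {φ φ' : G → Ω → ℂ}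
    (hφ : ∀ (x g : G) (ω : Ω), φ (x * g * x⁻¹) (x • ω) = φ g ω)
    (hφ' : ∀ (x g : G) (ω : Ω), φ' (x * g * x⁻¹) (x • ω) = φ' g ω) (ω₀ : Ω) :
    ∑ g : G, orbSum φ g * conj (orbSum φ' g) = (Nat.card Ω : ℂ) * ∑ ω : Ω, tt φ φ' ω₀ ω := by
  classical
  have h1 : ∑ g : G, orbSum φ g * conj (orbSum φ' g) = ∑ ω : Ω, ∑ ω' : Ω, tt φ φ' ω ω' := by
    unfold tt
    have h2 : ∀ g : G, orbSum φ g * conj (orbSum φ' g) =
        ∑ ω : Ω, ∑ ω' : Ω, if g • ω = ω ∧ g • ω' = ω' then φ g ω * conj (φ' g ω') else 0 := by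
      intro g
      unfold orbSum
      rw [map_sum, Finset.sum_mul]
      refine Finset.sum_congr rfl fun ω _ => ?_
      rw [Finset.mul_sum]
      refine Finset.sum_congr rfl fun ω' _ => ?_
      by_cases h3 : g • ω = ω
      · by_cases h4 : g • ω' = ω'
        · rw [if_pos h3, if_pos h4, if_pos ⟨h3, h4⟩]
        · rw [if_neg h4, map_zero, mul_zero, if_neg (fun h => h4 h.2)]
      · rw [if_neg h3, zero_mul, if_neg (fun h => h3 h.1)]
    rw [Finset.sum_congr rfl fun g _ => h2 g, Finset.sum_comm]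
    exact Finset.sum_congr rfl fun ω _ => Finset.sum_comm
  rw [h1]
  have h3 : ∀ ω : Ω, ∑ ω' : Ω, tt φ φ' ω ω' = ∑ ω' : Ω, tt φ φ' ω₀ ω' := by
    intro ω
    obtain ⟨x, rfl⟩ := exists_smul_eq G ω₀ ω
    symm
    refine Fintype.sum_equiv (MulAction.toPerm x) _ _ fun ω' => ?_
    exact (tt_smul hφ hφ' x ω₀ ω').symm
  rw [Finset.sum_congr rfl fun ω _ => h3 ω, Finset.sum_const, Finset.card_univ, ← Nat.card_eq_fintype_card,
    nsmul_eq_mul]

/-- **two orbitals** -/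
theorem inner_orbSum [Fintype G] [Fintype Ω] [IsPretransitive G Ω] {φ φ' : G → Ω → ℂ}
    (hφ : ∀ (x g : G) (ω : Ω), φ (x * g * x⁻¹) (x • ω) = φ g ω)
    (hφ' : ∀ (x g : G) (ω : Ω), φ' (x * g * x⁻¹) (x • ω) = φ' g ω) {ω₀ ω₁ : Ω} (hne : ω₁ ≠ ω₀)
    (hz : ∀ ω, ω ≠ ω₀ → (∀ x : G, x • ω₀ = ω₀ → x • ω₁ ≠ ω) → tt φ φ' ω₀ ω = 0) {a b : ℂ}
    (ha : tt φ φ' ω₀ ω₀ = (Nat.card (stabilizer G ω₀) : ℂ) * a)
    (hb : tt φ φ' ω₀ ω₁ = (Nat.card (stabilizer G ω₀ ⊓ stabilizer G ω₁ : Subgroup G) : ℂ) * b) :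
    classInner (orbSum φ) (orbSum φ') = a + b := by
  classical
  set S := stabilizer G ω₀ with hS
  let O : Finset Ω := (orbit S ω₁).toFinset
  have hO : ∀ ω, ω ∈ O ↔ ∃ x : G, x • ω₀ = ω₀ ∧ x • ω₁ = ω := by
    intro ω
    rw [Set.mem_toFinset]
    constructor
    · rintro ⟨x, hx⟩
      exact ⟨x, mem_stabilizer_iff.1 x.2, hx⟩
    · rintro ⟨x, h1, h2⟩
      exact ⟨⟨x, mem_stabilizer_iff.2 h1⟩, h2⟩
  have h0 : ω₀ ∉ O := by
    rw [hO]
    rintro ⟨x, h1, h2⟩
    exact hne (smul_left_cancel x (h2.trans h1.symm))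
  have h1 : ∑ ω : Ω, tt φ φ' ω₀ ω = tt φ φ' ω₀ ω₀ + (O.card : ℂ) * tt φ φ' ω₀ ω₁ := by
    have h2 : ∑ ω : Ω, tt φ φ' ω₀ ω = ∑ ω ∈ insert ω₀ O, tt φ φ' ω₀ ω := by
      symm
      refine Finset.sum_subset (Finset.subset_univ _) fun ω _ hω => ?_
      rw [Finset.mem_insert, not_or, hO] at hω
      exact hz ω hω.1 fun x hx hx' => hω.2 ⟨x, hx, hx'⟩
    rw [h2, Finset.sum_insert h0]
    congr 1
    rw [Finset.sum_congr rfl (g := fun _ => tt φ φ' ω₀ ω₁) ?_, Finset.sum_const, nsmul_eq_mul]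
    intro ω hω
    obtain ⟨x, h3, rfl⟩ := (hO ω).1 hω
    have := tt_smul hφ hφ' x ω₀ ω₁
    rwa [h3] at this
  have h2 : O.card * Nat.card (S ⊓ stabilizer G ω₁ : Subgroup G) = Nat.card S := by
    have h3 := card_orbit_mul_card_stabilizer_eq_card_group S ω₁
    have h4 : Nat.card (S ⊓ stabilizer G ω₁ : Subgroup G) = Fintype.card (stabilizer S ω₁) := by
      rw [← Nat.card_eq_fintype_card]
      refine Nat.card_congr ⟨fun x => ⟨⟨x, x.2.1⟩, mem_stabilizer_iff.2 (mem_stabilizer_iff.1 x.2.2)⟩,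
        fun x => ⟨x.1, x.1.2, mem_stabilizer_iff.2 (mem_stabilizer_iff.1 x.2)⟩, fun x => rfl, fun x => rfl⟩
    rw [h4, Nat.card_eq_fintype_card, ← h3, Set.toFinset_card]
  have h5 : Nat.card G = Nat.card Ω * Nat.card S := by
    rw [Subgroup.card_eq_card_quotient_mul_card_subgroup S, ← Nat.card_congr (orbitEquivQuotientStabilizer G ω₀),
      orbit_eq_univ, Nat.card_univ]
  have h6 : (Nat.card G : ℂ) ≠ 0 := Core.card_ne_zero_complex
  rw [Core.classInner_def, sum_tt hφ hφ' ω₀, h1, ha, hb]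
  have h7 : (O.card : ℂ) * (Nat.card (S ⊓ stabilizer G ω₁ : Subgroup G) : ℂ) = (Nat.card S : ℂ) := by
    exact_mod_cast h2
  have h8 : (Nat.card G : ℂ) = (Nat.card Ω : ℂ) * (Nat.card S : ℂ) := by exact_mod_cast h5
  rw [← mul_assoc (O.card : ℂ), h7, inv_mul_eq_iff_eq_mul₀ h6, h8]
  ring

end abs

section parity

variable {G : Type u} [Group G]

/-- **a character of odd degree and norm `2` has a constituent of even degree.** -/
theorem exists_even [Fintype G] {H : G → ℂ} (hH : IsCharacter G H) (h2 : classInner H H = 2) {N : ℕ} (hN : H 1 = N)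
    (hodd : ¬ 2 ∣ N) : ∃ χ : G → ℂ, IsIrrCharacter G χ ∧ classInner H χ ≠ 0 ∧ ∃ d : ℕ, χ 1 = d ∧ 2 ∣ d ∧ d < N := by
  classical
  have : Finite (IrrCharacter G) := Core.finite_irr
  let _ : Fintype (IrrCharacter G) := Fintype.ofFinite _
  obtain ⟨m, hm⟩ := Core.isCharacter_iff.1 hH
  choose d hd0 hd using fun χ : IrrCharacter G => Core.isIrr_apply_one χ.2
  have h3 : ∀ χ : IrrCharacter G, classInner H χ = m χ := by
    intro χ
    rw [hm]
    exact Core.classInner_sum_nsmul_irr m χ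
  have h4 : ∑ χ : IrrCharacter G, m χ * m χ = 2 := by
    have h5 : classInner H H = ∑ χ : IrrCharacter G, (m χ : ℂ) * classInner H χ := by
      conv_lhs => enter [2]; rw [hm]
      rw [Core.classInner_sum_right]
      refine Finset.sum_congr rfl fun χ _ => ?_
      have : (m χ • (χ : G → ℂ)) = (m χ : ℂ) • (χ : G → ℂ) := by rw [Nat.cast_smul_eq_nsmul]
      rw [this, Core.classInner_smul_right, Complex.conj_natCast]
    rw [h2, Finset.sum_congr rfl fun χ _ => by rw [h3 χ]] at h5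
    exact_mod_cast h5.symm
  have h5 : ∑ χ : IrrCharacter G, m χ * d χ = N := by
    have h6 : (N : ℂ) = ∑ χ : IrrCharacter G, (m χ : ℂ) * d χ := by
      rw [← hN, hm, Finset.sum_apply]
      refine Finset.sum_congr rfl fun χ _ => ?_
      rw [Pi.smul_apply, nsmul_eq_mul, hd]
    exact_mod_cast h6.symm
  by_contra hno
  push Not at hno
  apply hodd
  -- all constituents have odd degree
  have h6 : ∀ χ : IrrCharacter G, m χ * d χ ≡ m χ * m χ [MOD 2] := by
    intro χ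
    by_cases h7 : m χ = 0
    · rw [h7]; simp; rfl
    · have h8 : ¬ 2 ∣ d χ := by
        intro h9
        have h10 := hno χ χ.2 (by rw [h3]; exact_mod_cast h7) (d χ) (hd χ) h9
        have h11 : m χ * d χ ≤ N := by
          rw [← h5]
          exact Finset.single_le_sum (f := fun χ => m χ * d χ) (fun _ _ => Nat.zero_le _) (Finset.mem_univ χ)
        have h12 : d χ ≤ m χ * d χ := Nat.le_mul_of_pos_left _ (Nat.pos_of_ne_zero h7)
        have h13 : d χ = N := by omega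
        rw [h13] at h9
        exact hodd h9
      have h9 : d χ % 2 = 1 := Nat.two_dvd_ne_zero.1 h8
      unfold Nat.ModEq
      rw [Nat.mul_mod, h9, mul_one, Nat.mod_mod, Nat.mul_mod]
      rcases Nat.mod_two_eq_zero_or_one (m χ) with h10 | h10 <;> rw [h10]
  have h7 : ∑ χ : IrrCharacter G, m χ * d χ ≡ ∑ χ : IrrCharacter G, m χ * m χ [MOD 2] := Nat.ModEq.sum fun χ _ => h6 χ
  rw [h5, h4] at h7
  exact (Nat.modEq_zero_iff_dvd.1 (h7.trans (by rfl)))

end parity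

end Cfsg.Agent.H279.Dl
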