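import Cfsg.Agent.H279.Dl.Norm

/-!
# Opposite subspaces (helper279, task DL-SP2 of S4769)

* `trans_opp` : the stabiliser of `W₀` is transitive on the opposite subspaces;
* `exists_fix` : an isometry of the complement extends by the identity.
-/

set_option autoImplicit false

open scoped ComplexConjugate
open Cfsg

namespace Cfsg.Agent.H279.Dl

open Cfsg.Agent.OddOrderCharacters.Clifford Cfsg.Agent.Characters MulAction Module Cfsg.Agent.H53.HC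
  Cfsg.Agent.H477.HC Cfsg.Agent.H749.Two

universe u v w

section

variable {K : Type u} [Field K] {V : Type v} [AddCommGroup V] [Module K V] (F : CForm K V)

/-- transport of `W₁` to `W'` -/
theorem exists_tr [FiniteDimensional K V] {W₀ W₁ W' : Submodule K V}
    (h1 : ∀ w ∈ W₀, (∀ w' ∈ W', F.B w w' = 0) → w = 0) (h2 : ∀ w' ∈ W', (∀ w ∈ W₀, F.B w w' = 0) → w' = 0) :
    ∃ φ : W₁ →ₗ[K] W', ∀ (w : W₀) (w₁ : W₁), F.B w (φ w₁) = F.B w w₁ := by
  classical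
  have key : ∀ w' : W₁, ∃ z : W', ∀ w : W₀, F.B w z = F.B w w' := by
    intro w'
    obtain ⟨b, hb, hb'⟩ := F.exists_pair W₀ W' ((F.lf w').comp W₀.subtype)
      (fun w hw => by
        have := h1 w w.2 hw
        have e : w = 0 := Subtype.ext this
        rw [e, map_zero])
    exact ⟨⟨b, hb⟩, fun w => (hb' w).symm⟩
  choose f hf using key
  have huniq : ∀ z z' : W', (∀ w : W₀, F.B w z = F.B w z') → z = z' := by
    intro z z' h
    have : ((z - z' : W') : V) = 0 := h2 _ (z - z').2 fun w hw => by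
      rw [Submodule.coe_sub, F.B_sub_right, h ⟨w, hw⟩, sub_self]
    exact sub_eq_zero.1 (Subtype.ext this)
  refine ⟨⟨⟨f, fun x y => huniq _ _ fun w => ?_⟩, fun c x => huniq _ _ fun w => ?_⟩, fun w w' => ?_⟩
  · rw [hf, Submodule.coe_add, Submodule.coe_add, F.B_add_right, F.B_add_right, hf, hf]
  · rw [hf, RingHom.id_apply, Submodule.coe_smul, Submodule.coe_smul, F.B_smul_right, F.B_smul_right, hf]
  · change F.B w (f w') = _
    rw [hf]

/-- **transitivity on the opposite subspaces** -/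
theorem trans_opp [FiniteDimensional K V] {k : ℕ} {W₀ W₁ W' : Submodule K V} (hW₀ : W₀ ∈ F.Om k) (hW₁ : W₁ ∈ F.Om k)
    (hW' : W' ∈ F.Om k) (h0 : W₀ ⊓ F.perp W₁ = ⊥) (h0' : W₀ ⊓ F.perp W' = ⊥) :
    ∃ g : F.iso, (∀ w ∈ W₀, (g : V ≃ₗ[K] V) w = w) ∧ W₁.map (F.iso.subtype g : V →ₗ[K] V) = W' := by
  classical
  have o1 := CForm.opp_symm (F := F) hW₀.2 hW₁.2 h0
  have o1' := CForm.opp_symm (F := F) hW₀.2 hW'.2 h0'
  have h1 : ∀ w ∈ W₀, (∀ w' ∈ W₁, F.B w w' = 0) → w = 0 := fun w hw hw' => by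
    have : w ∈ W₀ ⊓ F.perp W₁ := ⟨hw, hw'⟩
    rw [h0] at this
    exact (Submodule.mem_bot K).1 this
  have h2 : ∀ w' ∈ W₁, (∀ w ∈ W₀, F.B w w' = 0) → w' = 0 := fun w hw hw' => by
    have : w ∈ W₁ ⊓ F.perp W₀ := ⟨hw, fun w' hw'' => F.B_eq_zero (hw' w' hw'')⟩
    rw [o1] at this
    exact (Submodule.mem_bot K).1 this
  have g1 : ∀ w ∈ W₀, (∀ w' ∈ W', F.B w w' = 0) → w = 0 := fun w hw hw' => by
    have : w ∈ W₀ ⊓ F.perp W' := ⟨hw, hw'⟩
    rw [h0'] at this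
    exact (Submodule.mem_bot K).1 this
  have g2 : ∀ w' ∈ W', (∀ w ∈ W₀, F.B w w' = 0) → w' = 0 := fun w hw hw' => by
    have : w ∈ W' ⊓ F.perp W₀ := ⟨hw, fun w' hw'' => F.B_eq_zero (hw' w' hw'')⟩
    rw [o1'] at this
    exact (Submodule.mem_bot K).1 this
  have k1 : ∀ w ∈ W₁, (∀ w' ∈ W₀, F.B w w' = 0) → w = 0 := fun w hw h => h2 w hw fun w' hw' => F.B_eq_zero (h w' hw')
  have k2 : ∀ w' ∈ W₀, (∀ w ∈ W₁, F.B w w' = 0) → w' = 0 := fun w hw h => h1 w hw fun w' hw' => F.B_eq_zero (h w' hw')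
  obtain ⟨P, hP⟩ := F.exists_proj h1 h2
  obtain ⟨P', hP'⟩ := F.exists_proj k1 k2
  obtain ⟨Q, hQ⟩ := F.exists_proj g1 g2
  obtain ⟨φ, hφ⟩ := exists_tr F (W₁ := W₁) g1 g2
  have PW₀ : ∀ w : W₀, P w = w := by
    intro w
    have : ((P w - w : W₀) : V) = 0 := h1 _ (P w - w).2 fun w' hw' => by
      rw [Submodule.coe_sub, F.B_sub_left, ← hP w w' hw', sub_self]
    exact sub_eq_zero.1 (Subtype.ext this)
  have P'W' : ∀ w : W₁, P' w = w := by
    intro w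
    have : ((P' w - w : W₁) : V) = 0 := k1 _ (P' w - w).2 fun w' hw' => by
      rw [Submodule.coe_sub, F.B_sub_left, ← hP' w w' hw', sub_self]
    exact sub_eq_zero.1 (Subtype.ext this)
  have P0 : ∀ v, (∀ w ∈ W₁, F.B v w = 0) → P v = 0 := by
    intro v hv
    have : ((P v : W₀) : V) = 0 := h1 _ (P v).2 fun w' hw' => by rw [← hP v w' hw', hv w' hw']
    exact Subtype.ext this
  have P'0 : ∀ v, (∀ w ∈ W₀, F.B v w = 0) → P' v = 0 := by
    intro v hv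
    have : ((P' v : W₁) : V) = 0 := k1 _ (P' v).2 fun w' hw' => by rw [← hP' v w' hw', hv w' hw']
    exact Subtype.ext this
  let R : V →ₗ[K] V := LinearMap.id - W₀.subtype ∘ₗ P - W₁.subtype ∘ₗ P'
  have hR : ∀ v, R v = v - P v - P' v := fun v => rfl
  have RW₀ : ∀ v, ∀ w ∈ W₀, F.B (R v) w = 0 := by
    intro v w hw
    rw [hR, F.B_sub_left, F.B_sub_left, hW₀.1.2 _ (P v).2 w hw, hP' v w hw]
    ring
  have RW₁ : ∀ v, ∀ w ∈ W₁, F.B (R v) w = 0 := by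
    intro v w hw
    rw [hR, F.B_sub_left, F.B_sub_left, hW₁.1.2 _ (P' v).2 w hw, hP v w hw]
    ring
  have hdec : ∀ v, v = R v + (P v + P' v) := fun v => by rw [hR]; abel
  -- the complement for `W'`
  let R' : V →ₗ[K] V := R - W₀.subtype ∘ₗ Q ∘ₗ R
  have hR' : ∀ v, R' v = R v - Q (R v) := fun v => rfl
  have R'W₀ : ∀ v, ∀ w ∈ W₀, F.B (R' v) w = 0 := by
    intro v w hw
    rw [hR', F.B_sub_left, RW₀ v w hw, hW₀.1.2 _ (Q (R v)).2 w hw, sub_zero]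
  have R'W' : ∀ v, ∀ w ∈ W', F.B (R' v) w = 0 := by
    intro v w hw
    rw [hR', F.B_sub_left, hQ (R v) w hw, sub_self]
  have R'R' : ∀ v u, F.B (R' v) (R' u) = F.B (R v) (R u) := by
    intro v u
    conv_lhs => rw [hR' u, F.B_sub_right, R'W₀ v _ (Q (R u)).2, sub_zero, hR' v, F.B_sub_left,
      F.B_eq_zero (RW₀ u _ (Q (R v)).2), sub_zero]
  have QR' : ∀ v, F.Q (R' v) = F.Q (R v) := by
    intro v
    have e : R v = R' v + Q (R v) := by rw [hR']; abel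
    rw [e, F.Q_add, R'W₀ v _ (Q (R v)).2, hW₀.1.1 _ (Q (R v)).2, F.T_zero, add_zero, add_zero]
  let f : V →ₗ[K] V := R' + (W₀.subtype ∘ₗ P + W'.subtype ∘ₗ φ ∘ₗ P')
  have hf : ∀ v, f v = R' v + ((P v : V) + (φ (P' v) : V)) := fun v => rfl
  obtain ⟨g, hg⟩ := F.exists_iso f (fun u v => by
    rw [hf, hf]
    conv_rhs => rw [hdec u, hdec v]
    simp only [F.B_add_left, F.B_add_right]
    rw [R'R', R'W₀ u _ (P v).2, R'W' u _ (φ (P' v)).2, F.B_eq_zero (R'W₀ v _ (P u).2),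
      F.B_eq_zero (R'W' v _ (φ (P' u)).2), hW₀.1.2 _ (P u).2 _ (P v).2, hW'.1.2 _ (φ (P' u)).2 _ (φ (P' v)).2, hφ,
      F.B_symm (φ (P' u) : V), hφ, ← F.B_symm, RW₀ u _ (P v).2, RW₁ u _ (P' v).2,
      F.B_eq_zero (RW₀ v _ (P u).2), F.B_eq_zero (RW₁ v _ (P' u).2), hW₁.1.2 _ (P' u).2 _ (P' v).2]) (fun v => by
    rw [hf]
    conv_rhs => rw [hdec v]
    rw [F.Q_add, F.Q_add (P v : V) (φ (P' v) : V), F.Q_add (R v) (P v + P' v), F.Q_add (P v : V) (P' v : V),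
      F.B_add_right, F.B_add_right,
      R'W₀ v _ (P v).2, R'W' v _ (φ (P' v)).2, RW₀ v _ (P v).2, RW₁ v _ (P' v).2, hφ, QR', hW₀.1.1 _ (P v).2,
      hW₁.1.1 _ (P' v).2, hW'.1.1 _ (φ (P' v)).2])
  refine ⟨g, fun w hw => ?_, ?_⟩
  · have e1 : P' w = 0 := P'0 _ fun w' hw' => hW₀.1.2 w hw w' hw'
    have e2 : P w = ⟨w, hw⟩ := PW₀ ⟨w, hw⟩
    have e3 : R w = 0 := by rw [hR, e1, e2]; simp
    rw [hg, hf, hR', e3, e1, e2, map_zero, map_zero]
    simp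
  · apply Submodule.eq_of_le_of_finrank_eq
    · rintro _ ⟨w, hw, rfl⟩
      change (g : V ≃ₗ[K] V) w ∈ W'
      have e1 : P w = 0 := P0 _ fun w' hw' => hW₁.1.2 w hw w' hw'
      have e2 : P' w = ⟨w, hw⟩ := P'W' ⟨w, hw⟩
      have e3 : R w = 0 := by rw [hR, e1, e2]; simp
      rw [hg, hf, hR', e3, e1, e2, map_zero]
      simp
    · rw [hW'.2, ← hW₁.2]
      exact LinearEquiv.finrank_map_eq (g : V ≃ₗ[K] V) W₁

end

end Cfsg.Agent.H279.Dl
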