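import Cfsg.Agent.H246.Dl.Defs
import Cfsg.Agent.H674.Dl.Exact
import Cfsg.Agent.H755.Dl.Lin
import Cfsg.Agent.H477.HC.RowSp
import Cfsg.Agent.S2545

/-!
# Characters of `Sp_2n(2)` of even degree (helper279, task DL-SP2 of S4769)

* `pspIso` : `PSp n K ≃* (spF K n).iso` for `|K| = 2`;
* `dlLe` : the derived length of a Sylow `2`-subgroup is at most `clog 2 (2 n)`;
* `exists_st` : the Steinberg character;
* `exists_chi` : for `n < 2 k`, `3 ≤ k < n` a character of degree `dg (spF K n) k * 2 ^ a`, `a ≥ 1`;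
* `pp_dg_mul` : the odd part of `dg (spF K n) k`.
-/

set_option autoImplicit false

open scoped ComplexConjugate
open Cfsg

namespace Cfsg.Agent.H279.Dl

open Cfsg.Agent.Characters Module Cfsg.Agent.H53.HC Cfsg.Agent.H477.HC Cfsg.Agent.H749.Two Cfsg.Agent.H246.Dl
  Cfsg.Agent.H674.Dl

universe u v w

section

variable {K : Type u} [Field K]

theorem finite_of_two (h2 : Nat.card K = 2) : Finite K := Nat.finite_of_card_ne_zero (by rw [h2]; decide)

theorem two_eq_zero (h2 : Nat.card K = 2) : (2 : K) = 0 := by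
  have := finite_of_two h2
  let _ := Fintype.ofFinite K
  have h : ((Nat.card K : ℕ) : K) = 0 := by
    rw [Nat.card_eq_fintype_card]
    exact Nat.cast_card_eq_zero K
  rw [h2] at h
  exact_mod_cast h

theorem charP_two (h2 : Nat.card K = 2) : CharP K 2 := by
  have h := two_eq_zero h2
  have : CharP K (ringChar K) := ringChar.charP K
  have h3 : ringChar K ∣ 2 := (ringChar.spec K 2).1 (by exact_mod_cast h)
  have h4 : ringChar K = 2 := by
    rcases (Nat.dvd_prime Nat.prime_two).1 h3 with h5 | h5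
    · exfalso
      have := CharP.cast_eq_zero K (ringChar K)
      rw [h5, Nat.cast_one] at this
      exact one_ne_zero this
    · exact h5
  rw [← h4]
  infer_instance

theorem center_bot (h2 : Nat.card K = 2) (n : ℕ) :
    Subgroup.center (Matrix.symplecticGroup (Fin n) K) = ⊥ := by
  have := charP_two h2
  rw [eq_bot_iff]
  intro z hz
  rw [Subgroup.mem_bot]
  apply Subtype.ext
  rcases Cfsg.Agent.ClassicalGeometry.SympInvolutions.center_eq hz with h | h
  · rw [h]; rfl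
  · rw [h]
    ext i j
    change -(1 : Matrix (Fin n ⊕ Fin n) (Fin n ⊕ Fin n) K) i j = (1 : Matrix (Fin n ⊕ Fin n) (Fin n ⊕ Fin n) K) i j
    exact CharTwo.neg_eq _

/-- `PSp n K` is the isometry group. -/
noncomputable def pspIso (h2 : Nat.card K = 2) (n : ℕ) : PSp n K ≃* (CForm.spF K n).iso :=
  ((QuotientGroup.quotientMulEquivOfEq (center_bot h2 n)).trans QuotientGroup.quotientBot).trans (isoSp n K)

/-- **derived length** -/
theorem dlLe (h2 : Nat.card K = 2) (n : ℕ) : DlLe 2 (Nat.clog 2 (2 * n)) (PSp n K) := by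
  have := charP_two h2
  have := finite_of_two h2
  have : Finite (Matrix.symplecticGroup (Fin n) K) := inferInstance
  let e : Fin n ⊕ Fin n ≃ Fin (2 * n) := finSumFinEquiv.trans (finCongr (two_mul n).symm)
  let ρ : Matrix.symplecticGroup (Fin n) K →* GL (Fin (2 * n)) K :=
    (Units.map (Matrix.reindexAlgEquiv K K e).toMonoidHom).comp (spHom n K)
  refine Cfsg.Agent.H755.Dl.DlLe_charp (F := K) (f := QuotientGroup.mk' (Subgroup.center _)) (ρ := ρ)
    (QuotientGroup.mk'_surjective _) ?_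
  intro A B h
  have h1 : ((ρ A : GL (Fin (2 * n)) K) : Matrix (Fin (2 * n)) (Fin (2 * n)) K) = ρ B := by rw [h]
  have h3 : Matrix.reindexAlgEquiv K K e (A : Matrix (Fin n ⊕ Fin n) (Fin n ⊕ Fin n) K) =
      Matrix.reindexAlgEquiv K K e (B : Matrix (Fin n ⊕ Fin n) (Fin n ⊕ Fin n) K) := h1
  exact Subtype.ext ((Matrix.reindexAlgEquiv K K e).injective h3)

theorem even_card (h2 : Nat.card K = 2) {j : ℕ} (hj : 1 ≤ j) : 2 ∣ Nat.card (CForm.spF K j).iso := by
  have := finite_of_two h2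
  rw [card_spF, h2]
  refine Dvd.dvd.mul_right (dvd_pow_self 2 ?_) _
  positivity

/-- **the Steinberg character** -/
theorem exists_st (h2 : Nat.card K = 2) {j : ℕ} (hj : 1 ≤ j) :
    ∃ ψ : (CForm.spF K j).iso → ℂ, IsIrrCharacter _ ψ ∧ ∃ a : ℕ, 1 ≤ a ∧ ψ 1 = ((2 ^ a : ℕ) : ℂ) ∧
      2 ^ a = 2 ^ (Nat.card (CForm.spF K j).iso).factorization 2 := by
  have := finite_of_two h2
  have := charP_two h2
  let _ := Fintype.ofFinite K
  have := finite_iso (CForm.spF K j)
  have hfin : Finite (PSp j K) := Finite.of_equiv _ (pspIso h2 j).symm.toEquiv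
  obtain ⟨χ, hχ, h⟩ := Cfsg.Agent.S2545.result (F := K) 2 j hj
  obtain ⟨P⟩ : Nonempty (Sylow 2 (PSp j K)) := inferInstance
  have h1 := (h P).1
  have hc : Nat.card (PSp j K) = Nat.card (CForm.spF K j).iso := Nat.card_congr (pspIso h2 j).toEquiv
  have hP : Nat.card P = 2 ^ (Nat.card (CForm.spF K j).iso).factorization 2 := by
    rw [← hc]
    exact P.card_eq_multiplicity
  refine ⟨χ ∘ (pspIso h2 j).symm, Core.isIrr_comp (pspIso h2 j).symm.toMonoidHom (pspIso h2 j).symm.surjective hχ,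
    (Nat.card (CForm.spF K j).iso).factorization 2, ?_, ?_, rfl⟩
  · exact (Nat.prime_two.dvd_iff_one_le_factorization (Nat.card_pos (α := (CForm.spF K j).iso)).ne').1
      (even_card h2 hj)
  · rw [Function.comp_apply, map_one, h1, hP]

/-- a totally singular subspace has dimension at most `n` -/
theorem finrank_le_of_TS {V : Type v} [AddCommGroup V] [Module K V] [FiniteDimensional K V] (F : CForm K V)
    {M : Submodule K V} (hM : F.TS M) : 2 * finrank K M ≤ finrank K V := by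
  obtain ⟨M', hM', h0⟩ := F.exists_opp (k := finrank K M) ⟨hM, rfl⟩
  have h1 : M ⊓ M' = ⊥ := by
    rw [eq_bot_iff, ← h0]
    exact inf_le_inf le_rfl hM'.1.le_perp
  have h2 := Submodule.finrank_sup_add_finrank_inf_eq M M'
  rw [h1, finrank_bot, add_zero, hM'.2] at h2
  have h3 := Submodule.finrank_le (M ⊔ M')
  omega

/-- no orthogonal disjoint pairs -/
theorem no_perp {V : Type v} [AddCommGroup V] [Module K V] [FiniteDimensional K V] (F : CForm K V) {k : ℕ}
    (hk : finrank K V < 4 * k) {W₀ W' : Submodule K V} (hW₀ : W₀ ∈ F.Om k) (hW' : W' ∈ F.Om k)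
    (h : W₀ ≤ F.perp W') (h0 : W₀ ⊓ W' = ⊥) : False := by
  have h1 := finrank_le_of_TS F (F.TS_sup hW₀.1 hW'.1 h)
  have h2 := Submodule.finrank_sup_add_finrank_inf_eq W₀ W'
  rw [h0, finrank_bot, add_zero, hW₀.2, hW'.2] at h2
  omega

/-- **the characters `χ_k`** -/
theorem exists_chi (h2 : Nat.card K = 2) {n k : ℕ} (hk3 : 3 ≤ k) (hkn : k < n) (hnk : n < 2 * k) :
    ∃ χ : (CForm.spF K n).iso → ℂ, IsIrrCharacter _ χ ∧ ∃ a : ℕ, 1 ≤ a ∧
      χ 1 = ((dg (CForm.spF K n) k * 2 ^ a : ℕ) : ℂ) := by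
  have := finite_of_two h2
  obtain ⟨e, f, j, hf⟩ := CForm.frm_sp (K := K) (k := k) (n := n - k) (m := n) (by omega)
  have hcmp := cmp_of_frm hf rfl
  have hW₀ := frm_mem hf
  obtain ⟨c, hc⟩ := exists_cus_sq K h2 k (by omega) (fun _ => hk3) (fun h => by omega) (fun h => by omega)
  obtain ⟨ψ, hψ, a, ha, hψ1, -⟩ := exists_st h2 (j := n - k) (by omega)
  obtain ⟨χ, hχ, hχ1, -⟩ := exists_hc hcmp (c := c) (Z := fun z => z ^ 2 = 1) hc hW₀ hψ (fun W' hW' h1 h0 =>
    no_perp _ (by rw [finrank_fintype_fun_eq_card]; simp; omega) hW₀ hW' h1 h0)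
  refine ⟨χ, hχ, a, ha, ?_⟩
  rw [hχ1, hψ1]
  push_cast
  ring

/-- `∏_{i<n} (2^(2(i+1)) - 1)` -/
def A (n : ℕ) : ℕ := ∏ i ∈ Finset.range n, (2 ^ (2 * (i + 1)) - 1)

theorem A_succ (n : ℕ) : A (n + 1) = A n * (2 ^ (2 * (n + 1)) - 1) := Finset.prod_range_succ _ _

theorem A_pos (n : ℕ) : 0 < A n := by
  refine Finset.prod_pos fun i _ => ?_
  have : 1 < 2 ^ (2 * (i + 1)) := Nat.one_lt_pow (by omega) (by norm_num)
  omega

theorem card_iso (h2 : Nat.card K = 2) (n : ℕ) : Nat.card (CForm.spF K n).iso = 2 ^ n ^ 2 * A n := by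
  have := finite_of_two h2
  rw [card_spF, h2]
  rfl

theorem pp_card (h2 : Nat.card K = 2) (n : ℕ) : pp 2 (Nat.card (CForm.spF K n).iso) = A n := by
  have := finite_of_two h2
  have := charP_two h2
  rw [card_iso h2, pp_pow_mul Nat.prime_two]
  have h := pp_A K 2 (Finset.range n)
  rw [h2] at h
  exact h

/-- **the odd part of the degree** -/
theorem pp_dg_mul (h2 : Nat.card K = 2) {n k : ℕ} (hk : 0 < k) (hkn : k ≤ n) :
    A n = pp 2 (dg (CForm.spF K n) k) * (2 ^ k - 1) * A (n - k) := by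
  have := finite_of_two h2
  have := charP_two h2
  obtain ⟨e, f, j, hf⟩ := CForm.frm_sp (K := K) (k := k) (n := n - k) (m := n) (by omega)
  have h := pp_dg (p := 2) hk hf rfl
  rw [pp_card h2, pp_card h2, h2] at h
  exact h

end

end Cfsg.Agent.H279.Dl
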