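import Cfsg.Agent.H279.Dl.Inner
import Cfsg.Agent.H279.Dl.SpChi
import Cfsg.Agent.Characters.Linear

/-!
# The monomial characters of `Sp_2n(2)` of degree `|Om 2|` (helper279, task DL-SP2 of S4769)
-/

set_option autoImplicit false

open scoped ComplexConjugate
open Cfsg

namespace Cfsg.Agent.H279.Dl

open Cfsg.Agent.OddOrderCharacters.Clifford Cfsg.Agent.Characters MulAction Module Cfsg.Agent.H53.HC
  Cfsg.Agent.H477.HC Cfsg.Agent.H749.Two Cfsg.Agent.H139.Cusp

universe u v w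

/-- values of linear characters -/
theorem lin_conj {G : Type*} [Group G] [Finite G] {χ : G → ℂ} (hχ : IsCharacter G χ) (h1 : χ 1 = 1) (x : G) :
    χ x * conj (χ x) = 1 := by
  obtain ⟨f, rfl⟩ := Characters.Linear.exists_hom_of_isCharacter hχ h1
  change (f x : ℂ) * conj (f x : ℂ) = 1
  rw [Complex.mul_conj, Complex.normSq_eq_norm_sq, Characters.Linear.norm_hom_apply]
  norm_num

/-- the sum of a non-trivial linear character -/
theorem lin_sum {G : Type*} [Group G] [Fintype G] {χ : G → ℂ} (hχ : IsCharacter G χ) (h1 : χ 1 = 1) {x : G}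
    (hx : χ x ≠ 1) : ∑ g : G, χ g = 0 := by
  obtain ⟨f, rfl⟩ := Characters.Linear.exists_hom_of_isCharacter hχ h1
  have h2 : (f x : ℂ) * ∑ g : G, (f g : ℂ) = ∑ g : G, (f g : ℂ) := by
    rw [Finset.mul_sum]
    refine Fintype.sum_equiv (Equiv.mulLeft x) _ _ fun g => ?_
    rw [Equiv.coe_mulLeft, map_mul, Units.val_mul]
  have h3 : ((f x : ℂ) - 1) * ∑ g : G, (f g : ℂ) = 0 := by rw [sub_mul, h2, one_mul, sub_self]
  exact (mul_eq_zero.1 h3).resolve_left (sub_ne_zero.2 hx)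

section

variable {K : Type u} [Field K]

/-- the sign character of `GL_2(2)` -/
theorem exists_c2 (h2 : Nat.card K = 2) : ∃ c : GL (Fin 2) K → ℂ, IsIrrCharacter _ c ∧ IsCusp c ∧ c 1 = 1 := by
  have := finite_of_two h2
  obtain ⟨L, _, _, _, hL⟩ := exists_L K 2 two_pos
  obtain ⟨θ, hθ⟩ := exists_theta L
  have hR : Regular K 2 (powTheta θ 1 one_ne_zero) := (regular_powTheta_iff hθ one_ne_zero hL).2 (fun i hi hi2 h => by
     have : i = 1 := by omega
     subst this
     rw [h2] at h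
     revert h
     norm_num)
  refine ⟨psi L (powTheta θ 1 one_ne_zero), psi_isIrr _ hL hR, psi_isCusp L _, ?_⟩
  rw [psi_one L _ two_pos, degP_eq_Ico, h2]
  have : (∏ x ∈ Finset.Ico 1 2, (2 ^ x - 1) : ℕ) = 1 := by decide
  rw [this, Nat.cast_one]

theorem eq_one_of_ne (h2 : Nat.card K = 2) {x : K} (hx : x ≠ 0) : x = 1 := by
  have := finite_of_two h2
  classical
  have := Fintype.ofFinite K
  by_contra h
  have h1 : ({0, 1, x} : Finset K).card ≤ 2 := by
    rw [← h2, Nat.card_eq_fintype_card]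
    exact Finset.card_le_univ _
  rw [Finset.card_insert_of_notMem, Finset.card_insert_of_notMem, Finset.card_singleton] at h1
  · omega
  · simpa using fun h2 => h h2.symm
  · simp only [Finset.mem_insert, Finset.mem_singleton, not_or]
    exact ⟨zero_ne_one, fun h2 => hx h2.symm⟩

/-- the matrix `J` -/
def J₂ (K : Type u) [Field K] : GL (Fin 2) K :=
  ⟨!![0, 1; -1, 0], !![0, -1; 1, 0], by simp [Matrix.one_fin_two], by simp [Matrix.one_fin_two]⟩

theorem invT_two {A : GL (Fin 2) K} (h : (A : Matrix (Fin 2) (Fin 2) K).det = 1) :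
    invT 2 A = J₂ K * A * (J₂ K)⁻¹ := by
  ext1
  rw [invT_val, Matrix.coe_units_inv, Matrix.inv_def, h, Matrix.adjugate_fin_two]
  change _ = !![0, 1; -1, 0] * (A : Matrix (Fin 2) (Fin 2) K) * !![0, -1; 1, 0]
  ext i j
  fin_cases i <;> fin_cases j <;> simp [Matrix.mul_apply, Fin.sum_univ_two, Matrix.vecMul, dotProduct]

theorem iota_self (h2 : Nat.card K = 2) {c : GL (Fin 2) K → ℂ} (hc : IsClassFunction _ c) {n : ℕ} (A : GL (Fin 2) K) :
    c ((CForm.spF K n).iota 2 A) = c A := by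
  have h3 : (CForm.spF K n).iota 2 A = invT 2 A := by
    ext i j
    rfl
  have h4 : (A : Matrix (Fin 2) (Fin 2) K).det = 1 := by
    refine eq_one_of_ne h2 fun h => ?_
    have := (Matrix.isUnits_det_units A)
    rw [h] at this
    exact not_isUnit_zero this
  rw [h3, invT_two h4]
  exact hc _ _

theorem c2_ne_one (h2 : Nat.card K = 2) {c : GL (Fin 2) K → ℂ} (hc : IsCusp c) : ∃ A, c A ≠ 1 := by
  classical
  have := finite_of_two h2
  by_contra hno
  push Not at hno
  have hc1 : c = fun _ => 1 := funext hno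
  have hcl : IsClassFunction _ c := by rw [hc1]; intro g h; rfl
  let D : Submodule K (Fin 2 → K) := K ∙ (Pi.single 0 1)
  have hD0 : D ≠ ⊥ := by
    intro h
    have := Submodule.span_singleton_eq_bot.1 h
    have h3 := congrFun this 0
    simp at h3
  have hD1 : D ≠ ⊤ := by
    intro h
    have h3 : (Pi.single 1 1 : Fin 2 → K) ∈ D := by rw [h]; trivial
    obtain ⟨a, ha⟩ := Submodule.mem_span_singleton.1 h3
    have h4 := congrFun ha 1
    simp at h4
  have hfin : Finite ((Fin 2 → K) ≃ₗ[K] (Fin 2 → K)) :=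
    Finite.of_injective (fun e : (Fin 2 → K) ≃ₗ[K] (Fin 2 → K) => (e : (Fin 2 → K) → (Fin 2 → K))) DFunLike.coe_injective
  letI : Fintype (radU D) := Fintype.ofFinite _
  have h3 := hc D hD0 hD1
  have h4 : ∀ u : radU D, cl c (u : (Fin 2 → K) ≃ₗ[K] _) = 1 := by
    intro u
    rw [cl_eq hcl (Pi.basisFun K (Fin 2)), hno]
  rw [Finset.sum_congr rfl fun u _ => h4 u, Finset.sum_const, Finset.card_univ, nsmul_eq_mul, mul_one] at h3
  have h5 : Fintype.card (radU D) = 0 := by exact_mod_cast h3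
  exact absurd h5 Fintype.card_ne_zero

end

section Flag

variable {K : Type u} [Field K] {V : Type v} [AddCommGroup V] [Module K V] {F : CForm K V}

theorem flag_self [FiniteDimensional K V] [Finite K] {k : ℕ} {c : GL (Fin k) K → ℂ} (hc : IsIrrCharacter _ c)
    (hc1 : c 1 = 1) {W : Submodule K V} (hW : W ∈ F.Om k) {g : F.iso} (hg : g ∈ stabW F.iso.subtype W) :
    flagTerm F.iso.subtype c g W * conj (flagTerm F.iso.subtype c g W) = 1 := by
  have hcf := Core.isIrr_isClassFunction hc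
  have b : Basis (Fin k) K W := finBasisOfFinrankEq K W hW.2
  rw [flagTerm_of F.iso.subtype c hg, cl_eq hcf b]
  exact lin_conj (Core.isIrr_isCharacter hc) hc1 _

theorem flag_opp [FiniteDimensional K V] [Finite K] {k : ℕ} {c : GL (Fin k) K → ℂ} (hc : IsIrrCharacter _ c)
    (hc1 : c 1 = 1) (hself : ∀ A, c (F.iota k A) = c A) {W W' : Submodule K V} (hW : W ∈ F.Om k) (hW' : W' ∈ F.Om k)
    (hopp : W ⊓ F.perp W' = ⊥) {g : F.iso} (hg : g ∈ stabW F.iso.subtype W) (hg' : g ∈ stabW F.iso.subtype W') :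
    flagTerm F.iso.subtype c g W * conj (flagTerm F.iso.subtype c g W') = 1 := by
  have hcf := Core.isIrr_isClassFunction hc
  obtain ⟨b, b', hb⟩ := CForm.exists_dual_basis hW.2 hW'.2 hopp
  rw [flagTerm_of F.iso.subtype c hg, flagTerm_of F.iso.subtype c hg', cl_eq hcf b, cl_eq hcf b',
    CForm.glE_opp hb hg hg', hself]
  exact lin_conj (Core.isIrr_isCharacter hc) hc1 _

/-- **the scalar product for linear `c`** -/
theorem hc_inner_lin [Finite K] [FiniteDimensional K V] [Finite V] [Fintype F.iso] {k : ℕ} [Fintype (F.Om k)]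
    {c : GL (Fin k) K → ℂ} (hc : IsIrrCharacter _ c) (hcusp : IsCusp c) (hc1 : c 1 = 1)
    (hself : ∀ A, c (F.iota k A) = c A) (hcn : c ≠ 1)
    {ψ ψ' : F.iso → Submodule K V → ℂ} (h : Psi F k ψ) (h' : Psi F k ψ') {W₀ W₁ : Submodule K V}
    (hW₀ : W₀ ∈ F.Om k) (hW₁ : W₁ ∈ F.Om k) (hopp : W₀ ⊓ F.perp W₁ = ⊥) (hne : W₁ ≠ W₀)
    (hperp : ((∀ g W, ψ g W = ψ 1 W) ∧ (∀ g W, ψ' g W = ψ' 1 W)) ∨
      ∀ W' ∈ F.Om k, W₀ ≤ F.perp W' → W₀ ⊓ W' = ⊥ → False) {a b : ℂ}
    (ha : ∀ [Fintype (stabW F.iso.subtype W₀)], ∑ g : stabW F.iso.subtype W₀, ψ g W₀ * conj (ψ' g W₀) =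
        (Nat.card (stabW F.iso.subtype W₀) : ℂ) * a)
    (hb : ∀ [Fintype (stabW F.iso.subtype W₀ ⊓ stabW F.iso.subtype W₁ : Subgroup F.iso)],
      ∑ g : (stabW F.iso.subtype W₀ ⊓ stabW F.iso.subtype W₁ : Subgroup F.iso), ψ g W₀ * conj (ψ' g W₁) =
        (Nat.card (stabW F.iso.subtype W₀ ⊓ stabW F.iso.subtype W₁ : Subgroup F.iso) : ℂ) * b) :
    classInner (F.hc c ψ) (F.hc c ψ') = a + b := by
  have := finite_iso F
  refine hc_inner hc hcusp h h' hW₀ hW₁ hopp hne (fun ψ'' hT h1 W' hW' h2 h3 => ?_) (fun {_} => ?_) (fun {_} => ?_)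
  · rcases hperp with h4 | h4
    · exact F.van_case3' hc hcn (h1 h4.1 h4.2) hW₀ hW' h2 h3
    · exact (h4 W' hW' h2 h3).elim
  · rw [← ha]
    refine Finset.sum_congr rfl fun g _ => ?_
    rw [map_mul, mul_mul_mul_comm, flag_self hc hc1 hW₀ g.2, one_mul]
  · rw [← hb]
    refine Finset.sum_congr rfl fun g _ => ?_
    rw [map_mul, mul_mul_mul_comm, flag_opp hc hc1 hself hW₀ hW₁ hopp g.2.1 g.2.2, one_mul]

end Flag

end Cfsg.Agent.H279.Dl
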