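import Cfsg.Agent.H279.Dl.Sgn

/-!
# The norms (helper279, task DL-SP2 of S4769)

* `norm_one` : `(F.hc c 1, F.hc c 1) = 2`;
* `norm_psf`, `inner_psf` : the same for `ψ₀ ∘ ρ`, and `(F.hc c 1, F.hc c (ψ₀ ∘ ρ)) = 0`.
-/

set_option autoImplicit false

open scoped ComplexConjugate
open Cfsg

namespace Cfsg.Agent.H279.Dl

open Cfsg.Agent.OddOrderCharacters.Clifford Cfsg.Agent.Characters MulAction Module Cfsg.Agent.H53.HC
  Cfsg.Agent.H477.HC Cfsg.Agent.H749.Two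

universe u v w

section

variable {K : Type u} [Field K] {V : Type v} [AddCommGroup V] [Module K V] {F : CForm K V}
  {X : Type w} [AddCommGroup X] [Module K X] {F' : CForm K X} {j : X →ₗ[K] V} {W₀ W₁ : Submodule K V}

/-- the family attached to a character of the stabiliser of `W₀` -/
theorem Psi.psf [FiniteDimensional K V] {k : ℕ} (hW₀ : W₀ ∈ F.Om k) {ψ₁ : stabW F.iso.subtype W₀ → ℂ}
    (hψ : IsCharacter _ ψ₁) (hT : ∀ g : stabW F.iso.subtype W₀, (g : F.iso) ∈ F.TT W₀ → ψ₁ g = ψ₁ 1) :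
    Psi F k (psf F W₀ ψ₁) := by
  have hcl1 := Core.isCharacter_isClassFunction hψ
  refine ⟨fun x g W => psf_conj hcl1 x g W, fun W hWk g hg => ?_, fun W hWk => ?_⟩
  · obtain ⟨x, hx⟩ := F.trans_Om hW₀ hWk
    have h1 := TT_conj hx hg
    have h2 : x⁻¹ * 1 * x ∈ stabW F.iso.subtype W₀ := by
      rw [mul_one, inv_mul_cancel]; exact Subgroup.one_mem _
    rw [psf_eq hcl1 hx h1.1, psf_eq hcl1 hx h2, hT _ h1]
    congr 1
    apply Subtype.ext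
    change 1 = x⁻¹ * 1 * x
    group
  · obtain ⟨x, hx⟩ := F.trans_Om hW₀ hWk
    have hmem : ∀ g : stabW F.iso.subtype W, x⁻¹ * (g : F.iso) * x ∈ stabW F.iso.subtype W₀ := by
      intro g
      have hg : W.map (F.iso.subtype (g : F.iso) : V →ₗ[K] V) = W := g.2
      change W₀.map (F.iso.subtype (x⁻¹ * (g : F.iso) * x) : V →ₗ[K] V) = W₀
      rw [map_mul_apply, map_mul_apply, hx, hg, ← hx, ← map_mul_apply, inv_mul_cancel, map_one]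
      exact Submodule.map_id _
    let f : stabW F.iso.subtype W →* stabW F.iso.subtype W₀ :=
      { toFun := fun g => ⟨x⁻¹ * (g : F.iso) * x, hmem g⟩
        map_one' := Subtype.ext (by change x⁻¹ * 1 * x = 1; group)
        map_mul' := fun a b => Subtype.ext (by
          change x⁻¹ * ((a : F.iso) * (b : F.iso)) * x = (x⁻¹ * (a : F.iso) * x) * (x⁻¹ * (b : F.iso) * x)
          group) }
    have e : (fun g : stabW F.iso.subtype W => H749.Two.psf F W₀ ψ₁ g W) = ψ₁ ∘ f := by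
      funext g
      exact psf_eq hcl1 hx (hmem g)
    rw [e]
    exact Core.isCharacter_comp f hψ

/-- **norm, `ψ = 1`** -/
theorem norm_one [Finite K] [FiniteDimensional K V] [Finite V] [Fintype F.iso] {k : ℕ} [Fintype (F.Om k)]
    {c : GL (Fin k) K → ℂ} (hc : IsIrrCharacter _ c) (hcusp : IsCusp c) (hc1 : c 1 = 1)
    (hself : ∀ A, c (F.iota k A) = c A) (hcn : c ≠ 1) (hW₀ : W₀ ∈ F.Om k) (hW₁ : W₁ ∈ F.Om k)
    (hopp : W₀ ⊓ F.perp W₁ = ⊥) (hne : W₁ ≠ W₀) :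
    classInner (F.hc c (fun _ _ => 1)) (F.hc c (fun _ _ => 1)) = 2 := by
  rw [hc_inner_lin hc hcusp hc1 hself hcn (Psi.one F k) (Psi.one F k) hW₀ hW₁ hopp hne
    (Or.inl ⟨fun _ _ => rfl, fun _ _ => rfl⟩) (a := 1) (b := 1) (fun {_} => ?_) (fun {_} => ?_)]
  · norm_num
  · simp
  · rw [Finset.sum_congr rfl (g := fun _ => (1 : ℂ)) fun g _ => by simp, Finset.sum_const, Finset.card_univ,
      nsmul_eq_mul, Nat.card_eq_fintype_card]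

/-- an isometry of the complement extends by the identity -/
theorem exists_fix [FiniteDimensional K V] [FiniteDimensional K X] (h : Cmp F F' j W₀)
    (hj : ∀ x, ∀ w ∈ W₁, F.B (j x) w = 0) (b : F'.iso) :
    ∃ g : F.iso, (∀ w ∈ W₀, (g : V ≃ₗ[K] V) w = w) ∧ (∀ w ∈ W₁, (g : V ≃ₗ[K] V) w = w) ∧
      ∀ x, (g : V ≃ₗ[K] V) (j x) = j ((b : X ≃ₗ[K] X) x) := by
  obtain ⟨r, hr, hrj, hrW⟩ := h.exists_proj
  have hrW₁ : ∀ w ∈ W₁, r w = 0 := by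
    intro w hw
    refine F'.nondeg _ fun y => F'.B_eq_zero ?_
    rw [← hr, hj y w hw]
  have hjr : ∀ v y, F.B (j y) (v - j (r v)) = 0 := by
    intro v y
    rw [F.B_sub_right, hr, h.jB, sub_self]
  have hjr' : ∀ v y, F.B (v - j (r v)) (j y) = 0 := fun v y => F.B_eq_zero (hjr v y)
  let m : V →ₗ[K] V := (LinearMap.id - j.comp r) + j.comp (((b : X ≃ₗ[K] X) : X →ₗ[K] X).comp r)
  have hm : ∀ v, m v = (v - j (r v)) + j ((b : X ≃ₗ[K] X) (r v)) := fun v => rfl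
  obtain ⟨gb, hgb⟩ := F.exists_iso m (fun v u => by
      have e1 : F.B v u = F.B ((v - j (r v)) + j (r v)) ((u - j (r u)) + j (r u)) := by
        rw [sub_add_cancel, sub_add_cancel]
      rw [hm, hm, e1, F.B_add_left, F.B_add_right, F.B_add_right, F.B_add_left, F.B_add_right, F.B_add_right,
        hjr', hjr, hjr', hjr, h.jB, h.jB, F'.iso_B])
    (fun v => by
      have e1 : F.Q v = F.Q ((v - j (r v)) + j (r v)) := by rw [sub_add_cancel]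
      rw [hm, e1, F.Q_add, F.Q_add, hjr', hjr', h.jQ, h.jQ, F'.iso_Q])
  refine ⟨gb, fun w hw => ?_, fun w hw => ?_, fun x => ?_⟩
  · rw [hgb, hm, hrW w hw, map_zero, map_zero, map_zero, sub_zero, add_zero]
  · rw [hgb, hm, hrW₁ w hw, map_zero, map_zero, map_zero, sub_zero, add_zero]
  · rw [hgb, hm, hrj, sub_self, zero_add]

/-- `ρ` and the swap -/
theorem rho_swap [FiniteDimensional K V] [FiniteDimensional K X] (h : Cmp F F' j W₀)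
    (hj : ∀ x, ∀ w ∈ W₁, F.B (j x) w = 0) (hopp : W₀ ⊓ F.perp W₁ = ⊥)
    {ρ : stabW F.iso.subtype W₀ →* F'.iso}
    (hρ : ∀ (g : stabW F.iso.subtype W₀) x, ((g : F.iso) : V ≃ₗ[K] V) (j x) - j ((ρ g : X ≃ₗ[K] X) x) ∈ W₀)
    {x : F.iso} (hx2 : ∀ y, (x : V ≃ₗ[K] V) (j y) = j y) {g : F.iso} (hg : g ∈ stabW F.iso.subtype W₀)
    (hg1 : g ∈ stabW F.iso.subtype W₁) (hgx : x⁻¹ * g * x ∈ stabW F.iso.subtype W₀) :
    (∀ y, (g : V ≃ₗ[K] V) (j y) = j ((ρ ⟨g, hg⟩ : X ≃ₗ[K] X) y)) ∧ ρ ⟨x⁻¹ * g * x, hgx⟩ = ρ ⟨g, hg⟩ := by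
  obtain ⟨r, hr, hrj, hrW⟩ := h.exists_proj
  have h1 : ∀ y, (g : V ≃ₗ[K] V) (j y) = j ((ρ ⟨g, hg⟩ : X ≃ₗ[K] X) y) := by
    intro y
    have h2 := hρ ⟨g, hg⟩ y
    have h3 : (g : V ≃ₗ[K] V) (j y) - j ((ρ ⟨g, hg⟩ : X ≃ₗ[K] X) y) ∈ F.perp W₁ := by
      intro w hw
      have h4 : W₁.map (F.iso.subtype g : V →ₗ[K] V) = W₁ := hg1
      rw [F.B_sub_left, hj _ w hw, sub_zero]
      rw [← h4] at hw
      obtain ⟨w', hw', rfl⟩ := hw
      exact (F.iso_B g (j y) w').trans (hj y w' hw')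
    have h4 : (g : V ≃ₗ[K] V) (j y) - j ((ρ ⟨g, hg⟩ : X ≃ₗ[K] X) y) ∈ W₀ ⊓ F.perp W₁ := ⟨h2, h3⟩
    rw [hopp] at h4
    exact sub_eq_zero.1 ((Submodule.mem_bot K).1 h4)
  refine ⟨h1, ?_⟩
  apply Subtype.ext
  ext y
  have h2 := hrW _ (hρ ⟨x⁻¹ * g * x, hgx⟩ y)
  have h3 : ((x⁻¹ * g * x : F.iso) : V ≃ₗ[K] V) (j y) = j ((ρ ⟨g, hg⟩ : X ≃ₗ[K] X) y) := by
    change ((x⁻¹ : F.iso) : V ≃ₗ[K] V) ((g : V ≃ₗ[K] V) ((x : V ≃ₗ[K] V) (j y))) = _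
    rw [hx2, h1]
    have h4 : ((x⁻¹ : F.iso) : V ≃ₗ[K] V) ((x : V ≃ₗ[K] V) (j ((ρ ⟨g, hg⟩ : X ≃ₗ[K] X) y))) =
        j ((ρ ⟨g, hg⟩ : X ≃ₗ[K] X) y) := (x : V ≃ₗ[K] V).symm_apply_apply _
    rwa [hx2] at h4
  change r (((x⁻¹ * g * x : F.iso) : V ≃ₗ[K] V) (j y) - j ((ρ ⟨x⁻¹ * g * x, hgx⟩ : X ≃ₗ[K] X) y)) = 0 at h2
  rw [map_sub, h3, hrj, hrj, sub_eq_zero] at h2
  exact h2.symm

/-- **the two characters** -/
theorem two_chars [Finite K] [FiniteDimensional K V] [Finite V] [FiniteDimensional K X] [Finite X] [Fintype F.iso] {k : ℕ}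
    [Fintype (F.Om k)] {c : GL (Fin k) K → ℂ} (hc : IsIrrCharacter _ c) (hcusp : IsCusp c) (hc1 : c 1 = 1)
    (hself : ∀ A, c (F.iota k A) = c A) (hcn : c ≠ 1) (h : Cmp F F' j W₀) (hW₀ : W₀ ∈ F.Om k) (hW₁ : W₁ ∈ F.Om k)
    (hopp : W₀ ⊓ F.perp W₁ = ⊥) (hne : W₁ ≠ W₀) (hj : ∀ x, ∀ w ∈ W₁, F.B (j x) w = 0)
    (hperp : ∀ W' ∈ F.Om k, W₀ ≤ F.perp W' → W₀ ⊓ W' = ⊥ → False) {ψ₀ : F'.iso → ℂ} (hψ : IsCharacter _ ψ₀)
    (hψ1 : ψ₀ 1 = 1) {b : F'.iso} (hb : ψ₀ b ≠ 1) :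
    ∃ H : F.iso → ℂ, IsCharacter _ H ∧ H 1 = (Nat.card (F.Om k) : ℂ) ∧ classInner H H = 2 ∧
      classInner (F.hc c (fun _ _ => 1)) H = 0 := by
  have := finite_iso F
  have := finite_iso F'
  have hcf := Core.isIrr_isClassFunction hc
  obtain ⟨ρ, hρ1, hρ2, hρ3⟩ := h.exists_rho
  have hch : IsCharacter _ (ψ₀ ∘ ρ) := Core.isCharacter_comp ρ hψ
  have hcl1 := Core.isCharacter_isClassFunction hch
  have hψρ1 : (ψ₀ ∘ ρ) 1 = 1 := by rw [Function.comp_apply, map_one, hψ1]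
  have hPsi : Psi F k (psf F W₀ (ψ₀ ∘ ρ)) := Psi.psf hW₀ hch fun g hg => by
    rw [Function.comp_apply, Function.comp_apply, hρ2 g hg, map_one]
  -- the swap
  obtain ⟨x, hx1, hx2⟩ := F.exists_swap hW₀.1 hW₁.1 (hW₀.2.trans hW₁.2.symm) hopp
  have hxj : ∀ y, (x : V ≃ₗ[K] V) (j y) = j y := fun y =>
    hx2 _ (fun w hw => h.j1 y w hw) (fun w hw => hj y w hw)
  have hxg : ∀ {g : F.iso}, g ∈ stabW F.iso.subtype W₁ → x⁻¹ * g * x ∈ stabW F.iso.subtype W₀ := by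
    intro g hg
    have hg : W₁.map (F.iso.subtype g : V →ₗ[K] V) = W₁ := hg
    change W₀.map (F.iso.subtype (x⁻¹ * g * x) : V →ₗ[K] V) = W₀
    rw [map_mul_apply, map_mul_apply, hx1, hg, ← hx1, ← map_mul_apply, inv_mul_cancel, map_one]
    exact Submodule.map_id _
  have hv0 : ∀ g : stabW F.iso.subtype W₀, psf F W₀ (ψ₀ ∘ ρ) g W₀ = ψ₀ (ρ g) := fun g => psf_self hcl1 g
  have hv1 : ∀ (g : F.iso) (hg : g ∈ stabW F.iso.subtype W₀) (_ : g ∈ stabW F.iso.subtype W₁),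
      psf F W₀ (ψ₀ ∘ ρ) g W₁ = ψ₀ (ρ ⟨g, hg⟩) := by
    intro g hg hg1
    rw [psf_eq hcl1 hx1 (hxg hg1)]
    change ψ₀ (ρ _) = _
    rw [(rho_swap h hj hopp hρ1 hxj hg hg1 (hxg hg1)).2]
  -- the element
  obtain ⟨gb, hgb0, hgb1, hgbj⟩ := exists_fix h hj b
  have hs0 : gb ∈ stabW F.iso.subtype W₀ := map_eq_of_le F.iso.subtype fun w hw => by
    change (gb : V ≃ₗ[K] V) w ∈ W₀
    rw [hgb0 w hw]; exact hw
  have hs1 : gb ∈ stabW F.iso.subtype W₁ := map_eq_of_le F.iso.subtype fun w hw => by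
    change (gb : V ≃ₗ[K] V) w ∈ W₁
    rw [hgb1 w hw]; exact hw
  have hρb : ρ ⟨gb, hs0⟩ = b := by
    obtain ⟨r, hr, hrj, hrW⟩ := h.exists_proj
    apply Subtype.ext
    ext y
    have h2 := (rho_swap h hj hopp hρ1 hxj hs0 hs1 (hxg hs1)).1 y
    rw [hgbj] at h2
    have h3 := congrArg r h2
    rw [hrj, hrj] at h3
    exact h3.symm
  refine ⟨F.hc c (psf F W₀ (ψ₀ ∘ ρ)), hc_chr hc hPsi hW₀, ?_, ?_, ?_⟩
  · rw [F.hc_one hcf _ (d := 1), hc1, mul_one, mul_one]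
    intro W hWk
    obtain ⟨y, hy⟩ := F.trans_Om hW₀ hWk
    have h2 : y⁻¹ * 1 * y ∈ stabW F.iso.subtype W₀ := by
      rw [mul_one, inv_mul_cancel]; exact Subgroup.one_mem _
    rw [psf_eq hcl1 hy h2, ← hψρ1]
    congr 1
    apply Subtype.ext
    change y⁻¹ * 1 * y = 1
    group
  · rw [hc_inner_lin hc hcusp hc1 hself hcn hPsi hPsi hW₀ hW₁ hopp hne (Or.inr hperp) (a := 1) (b := 1)
      (fun {_} => ?_) (fun {_} => ?_)]
    · norm_num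
    · rw [Finset.sum_congr rfl (g := fun _ => (1 : ℂ)) fun g _ => ?_]
      · simp
      · rw [hv0]
        exact lin_conj hψ hψ1 _
    · rw [Finset.sum_congr rfl (g := fun _ => (1 : ℂ)) fun g _ => ?_]
      · rw [Finset.sum_const, Finset.card_univ, nsmul_eq_mul, Nat.card_eq_fintype_card]
      · rw [hv0 ⟨g, g.2.1⟩, hv1 g g.2.1 g.2.2]
        exact lin_conj hψ hψ1 _
  · rw [hc_inner_lin hc hcusp hc1 hself hcn (Psi.one F k) hPsi hW₀ hW₁ hopp hne (Or.inr hperp) (a := 0) (b := 0)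
      (fun {_} => ?_) (fun {_} => ?_)]
    · norm_num
    · have h1 : ∑ g : stabW F.iso.subtype W₀, (ψ₀ ∘ ρ) g = 0 := lin_sum hch hψρ1 (x := ⟨gb, hs0⟩) (by
        rw [Function.comp_apply, hρb]; exact hb)
      rw [mul_zero, Finset.sum_congr rfl (g := fun g => conj ((ψ₀ ∘ ρ) g)) fun g _ => by
        rw [hv0, one_mul]; rfl, ← map_sum, h1, map_zero]
    · let i : (stabW F.iso.subtype W₀ ⊓ stabW F.iso.subtype W₁ : Subgroup F.iso) →* stabW F.iso.subtype W₀ :=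
        Subgroup.inclusion inf_le_left
      have h1 : ∑ g : (stabW F.iso.subtype W₀ ⊓ stabW F.iso.subtype W₁ : Subgroup F.iso), ((ψ₀ ∘ ρ) ∘ i) g = 0 :=
        lin_sum (Core.isCharacter_comp i hch) (by rw [Function.comp_apply, map_one, hψρ1]) (x := ⟨gb, hs0, hs1⟩) (by
          change ψ₀ (ρ ⟨gb, hs0⟩) ≠ 1
          rw [hρb]; exact hb)
      rw [mul_zero, Finset.sum_congr rfl (g := fun g => conj (((ψ₀ ∘ ρ) ∘ i) g)) fun g _ => by
        rw [hv1 g g.2.1 g.2.2, one_mul]; rfl, ← map_sum, h1, map_zero]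

end

end Cfsg.Agent.H279.Dl
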